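import Cfsg.Agent.Lib.CosetEnum.Fi23O8.Defs
import Cfsg.Agent.Lib.CosetEnum.Trans.Defs

/-!
# The checks carried out, and what they say
-/

set_option autoImplicit false
set_option maxRecDepth 100000

namespace Cfsg.Lib.CosetEnum.Fi23O8

theorem place_ok : placeOK 31671 0 = true := by decide +kernel

theorem parent_ok : parentOK 31671 0 = true := by decide +kernel

theorem closed_big_ok : closedBigOK 3240 0 = true := by decide +kernel

theorem vec_ok : vecOK 1080 0 = true := by decide +kernel

theorem all_vec_ok : allVecOK 6561 0 = true := by decide +kernel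

theorem gens_ok : (sGens.all fun g => Nat.blt (posTab.getP (Fi23Out.pts.getD g 0)) 1080 &&
    decide (qfc (vec (centres.getD (g - 1) 0)) = 1) &&
    Nat.beq (idxTab.getP (centres.getD (g - 1) 0)) (posTab.getP (Fi23Out.pts.getD g 0)) &&
    Nat.blt (centres.getD (g - 1) 0) 6561) = true := by
  decide +kernel

theorem roots_ok : ordPt 0 = Fi23Out.pts.getD 1 0 ∧
    ordPt 1080 = twalk Fi23Fi22.tabP 10 tPath (Fi23Out.pts.getD tGen 0) ∧
    ordPt 3240 = Fi23Out.pts.getD 0 0 ∧ tWord = tPath.reverse ++ [tGen] ++ tPath ∧ tGen < 10 ∧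
    (∀ g ∈ tWord, g < 10) := by
  decide +kernel

theorem moved_ok : ¬ posTab.getP (twalk Fi23Fi22.tabP 10 tWord (ordPt 0)) < 1080 ∧
    mv 1 (ordPt 1080) ≠ ordPt 1080 ∧ ¬ posTab.getP (mv 0 (ordPt 0)) < 3240 := by
  decide +kernel

theorem even_ok : evenWords.length = 8 ∧ ((List.range 8).all fun i =>
    Nat.beq ((evenWords.getD i []).length % 2) 0 &&
    ((evenWords.getD i []).all fun g => Nat.ble 1 g && Nat.blt g 10) &&
    ((List.range 10).all fun r => Nat.beq
      (twalk Fi23Fi22.tabP 10 (tWord ++ [i + 2, 1] ++ tWord) (Fi23Out.pts.getD r 0))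
      (twalk Fi23Fi22.tabP 10 (evenWords.getD i []) (Fi23Out.pts.getD r 0)))) = true := by
  decide +kernel

theorem cent_words_ok : (centWords.all fun w => Nat.beq (w.length % 2) 0 &&
    w.all fun g => Nat.ble 1 g && Nat.blt g 10) = true ∧ (centCands.map fun e => e.2.length).prod = 1 ∧
    centCands.map Prod.fst = [1, 3, 4, 5, 6, 7, 8, 0, 9, 2] := by
  decide +kernel

/-- The words known when the `i`th candidate list is used. -/
def chainWords : ℕ → List (List ℕ)
  | 0 => centWords
  | i + 1 => [(centCands.getD i (0, [])).1] :: chainWords i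

/-- The scan for the `i`th candidate list. -/
noncomputable def chainOK (i : ℕ) : Bool :=
  (Nat.blt (centCands.getD i (0, [])).1 10 && (chainWords i).all fun w => w.all fun g => Nat.blt g 10) &&
    scanOK Fi23Fi22.tabP 10 (centConds Fi23Fi22.tabP 10 Fi23Out.pts (chainWords i) (centCands.getD i (0, [])).1)
      (elemN (centCands.getD i (0, [])).2) 31671 0

theorem chain0 : chainOK 0 = true := by decide +kernel
theorem chain1 : chainOK 1 = true := by decide +kernel
theorem chain2 : chainOK 2 = true := by decide +kernel
theorem chain3 : chainOK 3 = true := by decide +kernel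
theorem chain4 : chainOK 4 = true := by decide +kernel
theorem chain5 : chainOK 5 = true := by decide +kernel
theorem chain6 : chainOK 6 = true := by decide +kernel
theorem chain7 : chainOK 7 = true := by decide +kernel
theorem chain8 : chainOK 8 = true := by decide +kernel
theorem chain9 : chainOK 9 = true := by decide +kernel

theorem chain_len : centCands.length = 10 := by decide +kernel

end Cfsg.Lib.CosetEnum.Fi23O8
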