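import Cfsg.Agent.Lib.CosetEnum.Fi23O8.Geom
import Cfsg.Agent.Lib.CosetEnum.Fi23O8.Data
import Cfsg.Agent.Lib.CosetEnum.Fi23O8.DataOrder
import Cfsg.Agent.Lib.CosetEnum.Fi23O8.DataPos
import Cfsg.Agent.Lib.CosetEnum.Fi23Fi22.Data
import Cfsg.Agent.Lib.CosetEnum.Fi23Out.Data

/-!
# The kernel checks on three orbits of a subgroup of Fi23 among the 31671 transpositions

The generators other than the first span a group with orbits of lengths 1080, 2160 and 28431; the first
orbit carries the points of an orthogonal space of plus type in dimension eight.
-/

set_option autoImplicit false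
set_option maxRecDepth 100000

namespace Cfsg.Lib.CosetEnum.Fi23O8

/-- The point with a place. -/
noncomputable def ordPt (j : ℕ) : ℕ := ordTab.getP j / B / B

/-- The place of the parent. -/
noncomputable def ordPar (j : ℕ) : ℕ := ordTab.getP j / B % B

/-- The generator from the parent. -/
noncomputable def ordGen (j : ℕ) : ℕ := ordTab.getP j % B

/-- The image of a point under a generator. -/
noncomputable def mv (g i : ℕ) : ℕ := img Fi23Fi22.tabP 10 g i

/-- The generators used. -/
def sGens : List ℕ := [1, 2, 3, 4, 5, 6, 7, 8, 9]

/-- Every point has a place. -/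
noncomputable def placeOK : ℕ → ℕ → Bool
  | 0, _ => true
  | m + 1, i => force i fun i =>
      (force (posTab.getP i) fun p => Nat.blt p 31671 && Nat.beq (ordPt p) i) && placeOK m (i + 1)

/-- The start of the orbit of a place. -/
noncomputable def rootOf (j : ℕ) : ℕ := cond (Nat.blt j 1080) 0 (cond (Nat.blt j 3240) 1080 3240)

/-- A place comes from an earlier one of the same orbit by a generator. -/
noncomputable def parentOK : ℕ → ℕ → Bool
  | 0, _ => true
  | m + 1, j => force j fun j =>
      (Nat.blt (ordPt j) 31671 && Nat.beq (posTab.getP (ordPt j)) j && (Nat.beq j (rootOf j) ||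
        (Nat.ble (rootOf j) (ordPar j) && Nat.blt (ordPar j) j && Nat.ble 1 (ordGen j) && Nat.blt (ordGen j) 10 &&
          Nat.beq (mv (ordGen j) (ordPt (ordPar j))) (ordPt j)))) && parentOK m (j + 1)

/-- The generators keep the first orbit, and both with the second member the first two. -/
noncomputable def closedBigOK : ℕ → ℕ → Bool
  | 0, _ => true
  | m + 1, j => force j fun j => force (ordPt j) fun q =>
      ((sGens.all fun g => force (posTab.getP (mv g q)) fun p =>
          Nat.blt p 3240 && (!(Nat.blt j 1080) || Nat.blt p 1080)) &&
        Nat.blt (posTab.getP (twalk Fi23Fi22.tabP 10 tWord q)) 3240) && closedBigOK m (j + 1)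

/-- The vector at a place. -/
noncomputable def ptVec (j : ℕ) : I8 → ZMod 3 := vec (vecTab.getP j)

/-- The vectors are of norm one, indexed up to sign, and moved as the points. -/
noncomputable def vecOK : ℕ → ℕ → Bool
  | 0, _ => true
  | m + 1, j => force j fun j => force (ordPt j) fun q =>
      (decide (qfc (ptVec j) = 1) && Nat.beq (idxTab.getP (code (ptVec j))) j &&
        Nat.beq (idxTab.getP (code (fun k => - ptVec j k))) j &&
        sGens.all fun g => Nat.beq (idxTab.getP (code (move (vec (centres.getD (g - 1) 0)) (ptVec j))))
          (posTab.getP (mv g q))) && vecOK m (j + 1)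

/-- Every vector of norm one is listed up to sign. -/
noncomputable def allVecOK : ℕ → ℕ → Bool
  | 0, _ => true
  | m + 1, c => force c fun c =>
      cond (decide (qfc (vec c) = 1))
        (force (idxTab.getP c) fun j => Nat.blt j 1080 &&
          (Nat.beq (code (ptVec j)) c || Nat.beq (code (fun k => - ptVec j k)) c)) true &&
        allVecOK m (c + 1)

/-- The moving word in the second member. -/
def tPath : List ℕ := tWord.drop (tWord.length / 2 + 1)

/-- The generator conjugated to the second member. -/
def tGen : ℕ := tWord.getD (tWord.length / 2) 0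

end Cfsg.Lib.CosetEnum.Fi23O8
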