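import Cfsg.Agent.Lib.Linear.OrthReflThree
import Cfsg.Agent.Lib.Linear.OrthForms
import Cfsg.Agent.Lib.Linear.OrthCenter

/-!
# Ternary codes for vectors of an eight-dimensional space of plus type
-/

set_option autoImplicit false

namespace Cfsg.Lib.CosetEnum.Fi23O8

open scoped Matrix

/-- The eight coordinates. -/
abbrev I8 : Type := Fin 4 ⊕ Fin 4

/-- The form. -/
abbrev qf : (I8 → ZMod 3) → ZMod 3 := Cfsg.quadFormPlus 4 (ZMod 3)

/-- The isometry group. -/
abbrev O8 := Cfsg.isometryGroup (ZMod 3) qf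

/-- The form written out, for computation. -/
def qfc (x : I8 → ZMod 3) : ZMod 3 :=
  x (.inl 0) * x (.inr 0) + x (.inl 1) * x (.inr 1) + x (.inl 2) * x (.inr 2) + x (.inl 3) * x (.inr 3)

theorem qf_eq (x : I8 → ZMod 3) : qf x = qfc x := by
  simp only [qf, Cfsg.quadFormPlus, Fin.sum_univ_four, qfc]

/-- The polar form. -/
def pol (x y : I8 → ZMod 3) : ZMod 3 :=
  (x (.inl 0) * y (.inr 0) + x (.inr 0) * y (.inl 0)) + (x (.inl 1) * y (.inr 1) + x (.inr 1) * y (.inl 1)) +
    (x (.inl 2) * y (.inr 2) + x (.inr 2) * y (.inl 2)) + (x (.inl 3) * y (.inr 3) + x (.inr 3) * y (.inl 3))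

theorem polar_eq (x y : I8 → ZMod 3) : QuadraticMap.polar qf x y = pol x y := by
  simp only [QuadraticMap.polar, qf_eq, qfc, pol, Pi.add_apply]
  ring

/-- The reflection along a vector of norm one. -/
def move (v x : I8 → ZMod 3) : I8 → ZMod 3 := fun k => x k + 2 * pol v x * v k

/-- The digit at a place of a ternary code. -/
def dig (c j : ℕ) : ZMod 3 := ((Nat.mod (Nat.div c (3 ^ j)) 3 : ℕ) : ZMod 3)

/-- The vector with a code. -/
def vec (c : ℕ) : I8 → ZMod 3
  | .inl k => dig c k.1
  | .inr k => dig c (4 + k.1)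

/-- The code of a vector. -/
def code (x : I8 → ZMod 3) : ℕ :=
  (x (.inl 0)).val + 3 * (x (.inl 1)).val + 9 * (x (.inl 2)).val + 27 * (x (.inl 3)).val +
    81 * (x (.inr 0)).val + 243 * (x (.inr 1)).val + 729 * (x (.inr 2)).val + 2187 * (x (.inr 3)).val

theorem code_lt (x : I8 → ZMod 3) : code x < 6561 := by
  have hb : ∀ a : ZMod 3, a.val < 3 := fun a => ZMod.val_lt a
  simp only [code]
  have := hb (x (.inl 0)); have := hb (x (.inl 1)); have := hb (x (.inl 2)); have := hb (x (.inl 3))
  have := hb (x (.inr 0)); have := hb (x (.inr 1)); have := hb (x (.inr 2)); have := hb (x (.inr 3))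
  omega

theorem vec_code (x : I8 → ZMod 3) : vec (code x) = x := by
  have hb : ∀ a : ZMod 3, a.val < 3 := fun a => ZMod.val_lt a
  have := hb (x (.inl 0)); have := hb (x (.inl 1)); have := hb (x (.inl 2)); have := hb (x (.inl 3))
  have := hb (x (.inr 0)); have := hb (x (.inr 1)); have := hb (x (.inr 2)); have := hb (x (.inr 3))
  funext k
  rcases k with k | k <;> fin_cases k <;>
    (simp only [vec, dig, code, Fin.reduceFinMk]
     conv_rhs => rw [← ZMod.natCast_zmod_val (x _)]
     congr 1
     show (_ / _) % 3 = _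
     norm_num
     omega)

theorem code_injective {x y : I8 → ZMod 3} (h : code x = code y) : x = y := by
  rw [← vec_code x, h, vec_code]

end Cfsg.Lib.CosetEnum.Fi23O8
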