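import Cfsg.Agent.Lib.CosetEnum.Fi23Table
import Cfsg.Agent.Lib.CosetEnum.Fi23O8.Checks

/-!
# A subgroup of Fi23 with orbits of lengths 1080, 2160 and 28431 on transpositions

`H1` is generated by the generators other than the first, `M` is its derived group, and `L` is generated by
`H1` and one member of the second orbit. The members in `L` are those of the first two orbits.
-/

set_option autoImplicit false
set_option maxRecDepth 100000
set_option linter.unusedSectionVars false

open scoped commutatorElement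

namespace Cfsg.Lib.CosetEnum.Fi23O8

/-- A group acting as Fi23 on the 31671 points of the table. -/
structure Tab23 (G : Type*) [Group G] [Finite G] where
  /-- The table. -/
  A : TransTable G 31671
  hZ : A.Z = Fi23Fi22.tabP
  hk : A.k = 10
  hp : A.pts = Fi23Out.pts
  center : Subgroup.center G = ⊥
  cls : Cfsg.IsThreeTranspositionSet (conjugatesOf A.d)

theorem mem_sGens {g : ℕ} : g ∈ sGens ↔ 1 ≤ g ∧ g < 10 := by
  simp only [sGens, List.mem_cons, List.not_mem_nil, or_false]
  omega

theorem placeOK_get : ∀ {m s : ℕ}, placeOK m s = true → ∀ i, s ≤ i → i < s + m →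
    posTab.getP i < 31671 ∧ ordPt (posTab.getP i) = i
  | 0, s, _, i, h1, h2 => by omega
  | m + 1, s, hc, i, h1, h2 => by
    simp only [placeOK, force_eq, Bool.and_eq_true] at hc
    rcases Nat.eq_or_lt_of_le h1 with h | h
    · subst h
      simpa [Nat.blt_eq, Nat.beq_eq] using hc.1
    · exact placeOK_get hc.2 i h (by omega)

theorem parentOK_get : ∀ {m s : ℕ}, parentOK m s = true → ∀ j, s ≤ j → j < s + m →
    ordPt j < 31671 ∧ posTab.getP (ordPt j) = j ∧ (j = rootOf j ∨ (rootOf j ≤ ordPar j ∧ ordPar j < j ∧ 1 ≤ ordGen j ∧ ordGen j < 10 ∧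
      mv (ordGen j) (ordPt (ordPar j)) = ordPt j))
  | 0, s, _, j, h1, h2 => by omega
  | m + 1, s, hc, j, h1, h2 => by
    simp only [parentOK, force_eq, Bool.and_eq_true] at hc
    rcases Nat.eq_or_lt_of_le h1 with h | h
    · subst h
      simpa [Nat.blt_eq, Nat.ble_eq, Nat.beq_eq, and_assoc] using hc.1
    · exact parentOK_get hc.2 j h (by omega)

theorem closedBigOK_get : ∀ {m s : ℕ}, closedBigOK m s = true → ∀ j, s ≤ j → j < s + m →
    (∀ g ∈ sGens, posTab.getP (mv g (ordPt j)) < 3240 ∧ (j < 1080 → posTab.getP (mv g (ordPt j)) < 1080)) ∧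
      posTab.getP (twalk Fi23Fi22.tabP 10 tWord (ordPt j)) < 3240
  | 0, s, _, j, h1, h2 => by omega
  | m + 1, s, hc, j, h1, h2 => by
    simp only [closedBigOK, force_eq, Bool.and_eq_true, List.all_eq_true] at hc
    rcases Nat.eq_or_lt_of_le h1 with h | h
    · subst h
      refine ⟨fun g hg => ?_, by simpa [Nat.blt_eq] using hc.1.2⟩
      have := hc.1.1 g hg
      simp only [Bool.or_eq_true, Bool.not_eq_true', Nat.blt_eq] at this
      refine ⟨this.1, fun hj => ?_⟩
      rcases this.2 with h' | h'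
      · exact absurd (Nat.ble_eq_true_of_le hj) (Bool.eq_false_iff.1 h')
      · exact h'
    · exact closedBigOK_get hc.2 j h (by omega)

variable {G : Type*} [Group G] [Finite G] (T : Tab23 G)

theorem img_apply {g : ℕ} (hg : g < 10) (q : Fin 31671) : (T.A.f (T.A.x g) q).1 = mv g q.1 := by
  rw [mv, ← T.hZ, ← T.hk]
  exact T.A.img_apply (T.hk ▸ hg) q

theorem walk_apply {w : List ℕ} (hw : ∀ g ∈ w, g < 10) (q : Fin 31671) :
    (T.A.f (wordVal T.A.x w) q).1 = twalk Fi23Fi22.tabP 10 w q.1 := by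
  rw [← T.hZ, ← T.hk]
  exact T.A.walk_apply (fun g hg => T.hk ▸ hw g hg) q

theorem pts_lt (T : Tab23 G) {g : ℕ} (hg : g < 10) : Fi23Out.pts.getD g 0 < 31671 :=
  T.hp ▸ T.A.pts_lt (T.hk ▸ hg)

/-- The point of a generator. -/
noncomputable def gPt (T : Tab23 G) {g : ℕ} (hg : g < 10) : Fin 31671 := ⟨Fi23Out.pts.getD g 0, pts_lt T hg⟩

theorem delta_gPt {g : ℕ} (hg : g < 10) : T.A.delta (gPt T hg) = T.A.x g := by
  rw [← T.A.delta_pts (T.hk ▸ hg)]
  congr 1
  exact Fin.ext (congrArg (fun l => l.getD g 0) T.hp.symm)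

theorem x_commute_iff {g h : ℕ} (hg : g < 10) (hh : h < 10) :
    T.A.x g * T.A.x h = T.A.x h * T.A.x g ↔ mv g (Fi23Out.pts.getD h 0) = Fi23Out.pts.getD h 0 := by
  rw [← delta_gPt T hh, T.A.commute_delta_iff, Fin.ext_iff, img_apply T hg]
  rfl

/-- Two members that do not commute have a product of order three. -/
theorem delta_cube (p q : Fin 31671) (h : T.A.f (T.A.delta p) q ≠ q) :
    (T.A.delta p * T.A.delta q) ^ 3 = 1 := by
  refine (T.cls.2 _ ((T.A.isConj_iff_exists _).2 ⟨p, rfl⟩) _ ((T.A.isConj_iff_exists _).2 ⟨q, rfl⟩)).resolve_left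
    fun h2 => h ((T.A.commute_delta_iff _ _).1 ?_)
  have hsq : ∀ r, T.A.delta r * T.A.delta r = 1 := fun r => by
    have := T.cls.1 _ ((T.A.isConj_iff_exists _).2 ⟨r, rfl⟩)
    rw [← pow_two, ← this, pow_orderOf_eq_one]
  rw [pow_two] at h2
  calc T.A.delta p * T.A.delta q = (T.A.delta p * T.A.delta q)⁻¹ := eq_inv_of_mul_eq_one_left h2
    _ = T.A.delta q * T.A.delta p := by
      rw [mul_inv_rev, inv_eq_of_mul_eq_one_right (hsq p), inv_eq_of_mul_eq_one_right (hsq q)]

/-- The point with a place. -/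
noncomputable def pl {j : ℕ} (hj : j < 31671) : Fin 31671 :=
  ⟨ordPt j, (parentOK_get parent_ok j (Nat.zero_le _) (by omega)).1⟩

/-- The place of a point. -/
noncomputable def place (q : Fin 31671) : ℕ := posTab.getP q.1

theorem place_lt (q : Fin 31671) : place q < 31671 :=
  (placeOK_get place_ok q.1 (Nat.zero_le _) (by omega)).1

theorem pl_place (q : Fin 31671) : pl (place_lt q) = q :=
  Fin.ext (placeOK_get place_ok q.1 (Nat.zero_le _) (by omega)).2

theorem rootOf_eq (j : ℕ) : rootOf j = if j < 1080 then 0 else if j < 3240 then 1080 else 3240 := by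
  have hb : ∀ a b : ℕ, Nat.blt a b = decide (a < b) := fun a b => by
    by_cases h : a < b
    · rw [decide_eq_true h]; simpa [Nat.blt_eq] using h
    · rw [decide_eq_false h]; exact Bool.eq_false_iff.2 fun he => h (Nat.le_of_ble_eq_true he)
  rw [rootOf, hb, hb]
  by_cases h1 : j < 1080 <;> by_cases h2 : j < 3240 <;> simp [h1, h2]

theorem ordPt_place (q : Fin 31671) : ordPt (place q) = q.1 :=
  (placeOK_get place_ok q.1 (Nat.zero_le _) (by omega)).2

/-- The group of the generators other than the first. -/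
noncomputable def H1 : Subgroup G := Subgroup.closure (T.A.x '' {g | g ∈ sGens})

theorem x_mem_H1 {g : ℕ} (hg : g ∈ sGens) : T.A.x g ∈ H1 T := Subgroup.subset_closure ⟨g, hg, rfl⟩

/-- Each orbit is reached from its root. -/
theorem reach : ∀ (j : ℕ) (hj : j < 31671), ∃ h ∈ H1 T, ∃ hr : rootOf j < 31671, T.A.f h (pl hr) = pl hj := by
  intro j
  induction j using Nat.strong_induction_on with
  | _ j ih =>
    intro hj
    have hroot : ∀ i, rootOf i < 31671 := fun i => by
      rw [rootOf_eq]; split_ifs <;> omega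
    rcases (parentOK_get parent_ok j (Nat.zero_le _) (by omega)).2.2 with h | ⟨h1, h2, h3, h4, h5⟩
    · refine ⟨1, one_mem _, hroot j, ?_⟩
      rw [map_one, Equiv.Perm.one_apply]
      exact Fin.ext (by show ordPt _ = ordPt _; rw [← h])
    · obtain ⟨h, hh, hr, he⟩ := ih (ordPar j) h2 (by omega)
      have hsame : rootOf (ordPar j) = rootOf j := by
        rw [rootOf_eq] at h1 ⊢
        rw [rootOf_eq]
        split_ifs at h1 ⊢ <;> omega
      refine ⟨T.A.x (ordGen j) * h, mul_mem (x_mem_H1 T (mem_sGens.2 ⟨h3, h4⟩)) hh, hroot j, ?_⟩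
      rw [map_mul, Equiv.Perm.mul_apply,
        show (pl (hroot j) : Fin 31671) = pl hr from Fin.ext (by show ordPt _ = ordPt _; rw [hsame]), he]
      exact Fin.ext ((img_apply T h4 _).trans h5)

/-- The stabiliser of the places below a bound. -/
def keep (c : ℕ) : Subgroup G where
  carrier := {g | ∀ q, place (T.A.f g q) < c ↔ place q < c}
  one_mem' := fun q => by simp
  mul_mem' := fun {a b} ha hb q => by rw [map_mul, Equiv.Perm.mul_apply, ha, hb]
  inv_mem' := fun {a} ha q => by
    conv_rhs => rw [← Equiv.apply_symm_apply (T.A.f a) q]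
    rw [ha, map_inv, Equiv.Perm.inv_def]

theorem mem_keep {c : ℕ} {g : G} (h : ∀ q, place q < c → place (T.A.f g q) < c) : g ∈ keep T c := by
  let F : {q : Fin 31671 // place q < c} → {q : Fin 31671 // place q < c} := fun q => ⟨_, h q.1 q.2⟩
  have hF : Function.Surjective F := Finite.injective_iff_surjective.1 fun a b e =>
    Subtype.ext ((T.A.f g).injective (congrArg Subtype.val e))
  refine fun q => ⟨fun hq => ?_, h q⟩
  obtain ⟨⟨r, hr⟩, e⟩ := hF ⟨_, hq⟩
  rwa [← (T.A.f g).injective (congrArg Subtype.val e)]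

theorem gen_keep {g : ℕ} (hg : g ∈ sGens) : T.A.x g ∈ keep T 1080 ∧ T.A.x g ∈ keep T 3240 := by
  have hb : ∀ q, place q < 3240 → place (T.A.f (T.A.x g) q) < 3240 ∧
      (place q < 1080 → place (T.A.f (T.A.x g) q) < 1080) := fun q hq => by
    have h := (closedBigOK_get closed_big_ok (place q) (Nat.zero_le _) (by omega)).1 g hg
    rw [ordPt_place, ← img_apply T (mem_sGens.1 hg).2] at h
    exact h
  exact ⟨mem_keep T fun q hq => (hb q (by omega)).2 hq, mem_keep T fun q hq => (hb q hq).1⟩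

theorem H1_le_keep : H1 T ≤ keep T 1080 ⊓ keep T 3240 := by
  rw [H1, Subgroup.closure_le]
  rintro _ ⟨g, hg, rfl⟩
  exact gen_keep T hg

/-- The member of the second orbit. -/
noncomputable def tEl : G := wordVal T.A.x tWord

theorem tPath_lt : ∀ g ∈ tPath, g < 10 := fun g hg => roots_ok.2.2.2.2.2 g (List.mem_of_mem_drop hg)

theorem tEl_eq : tEl T = T.A.delta (pl (show 1080 < 31671 by norm_num)) := by
  have hg := roots_ok.2.2.2.2.1
  rw [tEl, roots_ok.2.2.2.1, wordVal_append, wordVal_append, wordVal_reverse T.A.sq,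
    T.A.wordVal_singleton (T.hk ▸ hg), ← delta_gPt T hg, ← mul_assoc, ← T.A.delta_apply]
  congr 1
  exact Fin.ext ((walk_apply T tPath_lt _).trans roots_ok.2.1.symm)

theorem tEl_sq : tEl T * tEl T = 1 := by
  rw [tEl_eq]
  have := T.cls.1 _ ((T.A.isConj_iff_exists _).2 ⟨pl (show 1080 < 31671 by norm_num), rfl⟩)
  rw [← pow_two, ← this, pow_orderOf_eq_one]

theorem tEl_keep : tEl T ∈ keep T 3240 := by
  refine mem_keep T fun q hq => ?_
  have h := (closedBigOK_get closed_big_ok (place q) (Nat.zero_le _) (by omega)).2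
  rwa [ordPt_place, ← walk_apply T roots_ok.2.2.2.2.2] at h

/-- The group with the two orbits of members. -/
noncomputable def L : Subgroup G := Subgroup.closure (insert (tEl T) (T.A.x '' {g | g ∈ sGens}))

theorem H1_le_L : H1 T ≤ L T := Subgroup.closure_mono (Set.subset_insert _ _)

theorem tEl_mem_L : tEl T ∈ L T := Subgroup.subset_closure (Set.mem_insert _ _)

theorem L_le_keep : L T ≤ keep T 3240 := by
  rw [L, Subgroup.closure_le]
  rintro _ (rfl | ⟨g, hg, rfl⟩)
  · exact tEl_keep T
  · exact (gen_keep T hg).2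

/-- A member of each orbit is conjugate to its root under `H1`. -/
theorem delta_conj_root (q : Fin 31671) : ∃ h ∈ H1 T, ∃ hr : rootOf (place q) < 31671,
    h * T.A.delta (pl hr) * h⁻¹ = T.A.delta q := by
  obtain ⟨h, hh, hr, he⟩ := reach T (place q) (place_lt q)
  exact ⟨h, hh, hr, by rw [← T.A.delta_apply, he, pl_place]⟩

theorem root_delta {j r : ℕ} (hr : r < 31671) (g : ℕ) (hg : g < 10) (hrj : r = j)
    (h : ordPt j = Fi23Out.pts.getD g 0) : T.A.delta (pl hr) = T.A.x g := by
  rw [← delta_gPt T hg]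
  congr 1
  exact Fin.ext (by show ordPt r = _; rw [hrj]; exact h)

/-- The members in `L` are those of the first two orbits. -/
theorem delta_mem_L_iff (q : Fin 31671) : T.A.delta q ∈ L T ↔ place q < 3240 := by
  obtain ⟨h, hh, hr, he⟩ := delta_conj_root T q
  have hL := H1_le_L T hh
  rw [← he]
  refine ⟨fun hm => ?_, fun hq => mul_mem (mul_mem hL ?_) (inv_mem hL)⟩
  · by_contra hq
    have hx : T.A.x 0 ∈ L T := by
      have := mul_mem (mul_mem (inv_mem hL) hm) hL
      rw [show h⁻¹ * (h * T.A.delta (pl hr) * h⁻¹) * h = T.A.delta (pl hr) by group] at this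
      rwa [root_delta T hr 0 (by norm_num) (j := 3240)
        (by rw [rootOf_eq, if_neg (by omega), if_neg hq]) roots_ok.2.2.1] at this
    have h0 := (L_le_keep T hx (pl (show 0 < 31671 by norm_num))).2 ?_
    · exact moved_ok.2.2 (by rwa [place, img_apply T (by norm_num)] at h0)
    · have hp : Fi23Out.pts.getD 1 0 < 31671 := pts_lt T (by norm_num)
      show posTab.getP (ordPt 0) < 3240
      rw [roots_ok.1]
      have := List.all_eq_true.1 gens_ok 1 (by decide)
      simp only [Bool.and_eq_true, Nat.blt_eq] at this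
      omega
  · by_cases h1 : place q < 1080
    · rw [root_delta T hr 1 (by norm_num) (j := 0) (by rw [rootOf_eq, if_pos h1]) roots_ok.1]
      exact H1_le_L T (x_mem_H1 T (by decide))
    · have : (pl hr : Fin 31671) = pl (show 1080 < 31671 by norm_num) := Fin.ext (by
        show ordPt _ = ordPt _
        rw [show rootOf (place q) = 1080 by rw [rootOf_eq, if_neg h1, if_pos hq]])
      rw [this, ← tEl_eq]
      exact tEl_mem_L T

theorem x1_mem_gens : 1 ∈ sGens := by decide

/-- The even elements of `H1`. -/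
noncomputable def ev : Subgroup G := Subgroup.closure ((fun g => T.A.x 1 * T.A.x g) '' {g | g ∈ sGens})

/-- The derived group. -/
noncomputable def M : Subgroup G := ⁅H1 T, H1 T⁆

theorem M_le_H1 : M T ≤ H1 T := Subgroup.commutator_le_self _

theorem pair_mem_ev {g h : ℕ} (hg : g ∈ sGens) (hh : h ∈ sGens) : T.A.x g * T.A.x h ∈ ev T := by
  have := mul_mem (inv_mem (Subgroup.subset_closure ⟨g, hg, rfl⟩ : T.A.x 1 * T.A.x g ∈ ev T))
    (Subgroup.subset_closure ⟨h, hh, rfl⟩ : T.A.x 1 * T.A.x h ∈ ev T)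
  rwa [mul_inv_rev, inv_eq_of_mul_eq_one_right (T.A.sq g), inv_eq_of_mul_eq_one_right (T.A.sq 1),
    mul_assoc, ← mul_assoc (T.A.x 1), T.A.sq, one_mul] at this

theorem x1_conj_ev {e : G} (he : e ∈ ev T) : T.A.x 1 * e * T.A.x 1 ∈ ev T := by
  induction he using Subgroup.closure_induction with
  | mem x hx =>
    obtain ⟨g, hg, rfl⟩ := hx
    rw [← mul_assoc, T.A.sq, one_mul]
    exact pair_mem_ev T hg x1_mem_gens
  | one => rw [mul_one, T.A.sq]; exact one_mem _
  | mul x y _ _ hx hy =>
    have := mul_mem hx hy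
    rwa [show T.A.x 1 * x * T.A.x 1 * (T.A.x 1 * y * T.A.x 1) =
      T.A.x 1 * x * (T.A.x 1 * T.A.x 1) * y * T.A.x 1 by group, T.A.sq, mul_one,
      mul_assoc (T.A.x 1) x y] at this
  | inv x _ hx =>
    have := inv_mem hx
    rwa [mul_inv_rev, mul_inv_rev, inv_eq_of_mul_eq_one_right (T.A.sq 1), ← mul_assoc] at this

theorem H1_cases {y : G} (hy : y ∈ H1 T) : y ∈ ev T ∨ T.A.x 1 * y ∈ ev T := by
  induction hy using Subgroup.closure_induction with
  | mem x hx => obtain ⟨g, hg, rfl⟩ := hx; exact Or.inr (pair_mem_ev T x1_mem_gens hg)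
  | one => exact Or.inl (one_mem _)
  | mul x y _ _ hx hy =>
    rcases hx with hx | hx <;> rcases hy with hy | hy
    · exact Or.inl (mul_mem hx hy)
    · right
      have := mul_mem (x1_conj_ev T hx) hy
      rwa [show T.A.x 1 * x * T.A.x 1 * (T.A.x 1 * y) = T.A.x 1 * x * (T.A.x 1 * T.A.x 1) * y by group,
        T.A.sq, mul_one, mul_assoc] at this
    · right; rw [← mul_assoc]; exact mul_mem hx hy
    · left
      have := mul_mem (x1_conj_ev T hx) hy
      rwa [show T.A.x 1 * (T.A.x 1 * x) * T.A.x 1 * (T.A.x 1 * y) =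
        (T.A.x 1 * T.A.x 1) * x * (T.A.x 1 * T.A.x 1) * y by group, T.A.sq, one_mul, mul_one] at this
  | inv x _ hx =>
    rcases hx with hx | hx
    · exact Or.inl (inv_mem hx)
    · right
      have := x1_conj_ev T (inv_mem hx)
      rwa [mul_inv_rev, inv_eq_of_mul_eq_one_right (T.A.sq 1), mul_assoc, mul_assoc, T.A.sq, mul_one] at this

theorem M_eq_ev : M T = ev T := by
  refine le_antisymm ?_ ?_
  · rw [M, Subgroup.commutator_le]
    intro a ha b hb
    rw [commutatorElement_def]
    have hs := inv_eq_of_mul_eq_one_right (T.A.sq 1)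
    obtain ⟨ε, e, he, rfl⟩ : ∃ ε : Bool, ∃ e ∈ ev T, a = (if ε then T.A.x 1 else 1) * e := by
      rcases H1_cases T ha with h | h
      · exact ⟨false, a, h, by simp⟩
      · exact ⟨true, _, h, by simp [← mul_assoc, T.A.sq]⟩
    obtain ⟨η, f, hf, rfl⟩ : ∃ η : Bool, ∃ f ∈ ev T, b = (if η then T.A.x 1 else 1) * f := by
      rcases H1_cases T hb with h | h
      · exact ⟨false, b, h, by simp⟩
      · exact ⟨true, _, h, by simp [← mul_assoc, T.A.sq]⟩
    have hc : ∀ z ∈ ev T, T.A.x 1 * z * T.A.x 1 ∈ ev T := fun z hz => x1_conj_ev T hz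
    cases ε <;> cases η <;> simp only [Bool.false_eq_true, if_false, if_true, one_mul, mul_inv_rev, hs]
    · exact mul_mem (mul_mem (mul_mem he hf) (inv_mem he)) (inv_mem hf)
    · rw [show e * (T.A.x 1 * f) * e⁻¹ * (f⁻¹ * T.A.x 1) = e * (T.A.x 1 * (f * e⁻¹ * f⁻¹) * T.A.x 1) by group]
      exact mul_mem he (hc _ (mul_mem (mul_mem hf (inv_mem he)) (inv_mem hf)))
    · rw [show T.A.x 1 * e * f * (e⁻¹ * T.A.x 1) * f⁻¹ = (T.A.x 1 * (e * f * e⁻¹) * T.A.x 1) * f⁻¹ by group]
      exact mul_mem (hc _ (mul_mem (mul_mem he hf) (inv_mem he))) (inv_mem hf)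
    · rw [show T.A.x 1 * e * (T.A.x 1 * f) * (e⁻¹ * T.A.x 1) * (f⁻¹ * T.A.x 1) =
        (T.A.x 1 * e * T.A.x 1) * (f * e⁻¹) * (T.A.x 1 * f⁻¹ * T.A.x 1) by group]
      exact mul_mem (mul_mem (hc _ he) (mul_mem hf (inv_mem he))) (hc _ (inv_mem hf))
  · have edge : ∀ p ∈ [(1, 2), (2, 3), (3, 4), (4, 5), (5, 6), (6, 7), (3, 8), (8, 9)],
        T.A.x p.1 * T.A.x p.2 ∈ M T := by
      intro p hp
      obtain ⟨h1, h2, h3⟩ := (show ∀ p ∈ [(1, 2), (2, 3), (3, 4), (4, 5), (5, 6), (6, 7), (3, 8), (8, 9)],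
          p.1 ∈ sGens ∧ p.2 ∈ sGens ∧ mv p.1 (Fi23Out.pts.getD p.2 0) ≠ Fi23Out.pts.getD p.2 0 by
        decide +kernel) p hp
      have hc := delta_cube T (gPt T (mem_sGens.1 h1).2) (gPt T (mem_sGens.1 h2).2) (fun e => h3 (by
        rw [delta_gPt, Fin.ext_iff, img_apply T (mem_sGens.1 h1).2] at e
        exact e))
      rw [delta_gPt, delta_gPt] at hc
      have hm := Subgroup.commutator_mem_commutator (x_mem_H1 T h1) (x_mem_H1 T h2)
      rw [commutatorElement_def, inv_eq_of_mul_eq_one_right (T.A.sq p.1),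
        inv_eq_of_mul_eq_one_right (T.A.sq p.2), mul_assoc, ← pow_two] at hm
      rw [show T.A.x p.1 * T.A.x p.2 = ((T.A.x p.1 * T.A.x p.2) ^ 2)⁻¹ from
        eq_inv_of_mul_eq_one_left (by rw [← pow_succ']; exact hc)]
      exact inv_mem hm
    rw [ev, Subgroup.closure_le]
    rintro _ ⟨g, hg, rfl⟩
    have step : ∀ a b c : ℕ, T.A.x a * T.A.x b ∈ M T → T.A.x b * T.A.x c ∈ M T → T.A.x a * T.A.x c ∈ M T :=
      fun a b c h1 h2 => by
        have := mul_mem h1 h2
        rwa [mul_assoc, ← mul_assoc (T.A.x b), T.A.sq, one_mul] at this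
    have e2 := edge (1, 2) (by simp)
    have e3 := step 1 2 3 e2 (edge (2, 3) (by simp))
    have e4 := step 1 3 4 e3 (edge (3, 4) (by simp))
    have e5 := step 1 4 5 e4 (edge (4, 5) (by simp))
    have e6 := step 1 5 6 e5 (edge (5, 6) (by simp))
    have e7 := step 1 6 7 e6 (edge (6, 7) (by simp))
    have e8 := step 1 3 8 e3 (edge (3, 8) (by simp))
    have e9 := step 1 8 9 e8 (edge (8, 9) (by simp))
    have hg' := mem_sGens.1 hg
    show T.A.x 1 * T.A.x g ∈ M T
    obtain ⟨h1, h2⟩ := hg'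
    interval_cases g
    · rw [T.A.sq]; exact one_mem _
    all_goals assumption

theorem even_mem_M : ∀ (w : List ℕ), w.length % 2 = 0 → (∀ g ∈ w, g ∈ sGens) → wordVal T.A.x w ∈ M T
  | [], _, _ => one_mem _
  | [_], h, _ => by simp at h
  | a :: b :: w, h, hw => by
    have ha := (mem_sGens.1 (hw a (by simp))).2
    have hb := (mem_sGens.1 (hw b (by simp))).2
    rw [wordVal, wordVal, gen, gen, if_neg (by simp only [eps]; omega), if_neg (by simp only [eps]; omega),
      mul_assoc]
    refine mul_mem (even_mem_M w (by simp at h ⊢; omega) fun g hg => hw g (by simp [hg])) ?_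
    rw [M_eq_ev]
    exact pair_mem_ev T (hw b (by simp)) (hw a (by simp))

theorem tEl_conj_M {m : G} (hm : m ∈ M T) : tEl T * m * (tEl T)⁻¹ ∈ M T := by
  have key : (ev T).map (MulAut.conj (tEl T)).toMonoidHom ≤ M T := by
    rw [ev, MonoidHom.map_closure, Subgroup.closure_le]
    rintro _ ⟨_, ⟨g, hg, rfl⟩, rfl⟩
    show tEl T * (T.A.x 1 * T.A.x g) * (tEl T)⁻¹ ∈ M T
    rcases Nat.lt_or_ge g 2 with h | h
    · obtain rfl : g = 1 := by have := (mem_sGens.1 hg).1; omega
      rw [T.A.sq, mul_one, mul_inv_cancel]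
      exact one_mem _
    obtain ⟨i, rfl⟩ := Nat.exists_eq_add_of_le h
    have hi : i < 8 := by have := (mem_sGens.1 hg).2; omega
    obtain ⟨hlen, hall⟩ := even_ok
    simp only [List.all_eq_true, List.mem_range, Bool.and_eq_true, Nat.beq_eq, Nat.ble_eq, Nat.blt_eq] at hall
    obtain ⟨⟨hev, hlt⟩, heq⟩ := hall i hi
    have hW : tEl T * (T.A.x 1 * T.A.x (2 + i)) * (tEl T)⁻¹ = wordVal T.A.x (tWord ++ [i + 2, 1] ++ tWord) := by
      rw [wordVal_append, wordVal_append, wordVal, wordVal, wordVal, gen, gen,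
        if_neg (show ¬ (i + 2 = eps) by simp only [eps]; omega), if_neg (show ¬ (1 = eps) by simp [eps]), one_mul,
        inv_eq_of_mul_eq_one_right (tEl_sq T), add_comm 2 i]
      simp only [tEl, mul_assoc]
    have hlt1 : ∀ g ∈ tWord ++ [i + 2, 1] ++ tWord, g < 10 := by
      intro a ha
      simp only [List.mem_append, List.mem_cons, List.not_mem_nil, or_false] at ha
      rcases ha with (ha | ha | ha) | ha
      · exact roots_ok.2.2.2.2.2 a ha
      · omega
      · omega
      · exact roots_ok.2.2.2.2.2 a ha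
    rw [hW]
    suffices he : wordVal T.A.x (tWord ++ [i + 2, 1] ++ tWord) = wordVal T.A.x (evenWords.getD i []) by
      rw [he]
      exact even_mem_M T _ hev fun a ha => mem_sGens.2 (hlt a ha)
    rw [← inv_mul_eq_one, ← Subgroup.mem_bot, ← T.center]
    refine T.A.mem_center_of_fix fun r hr => ?_
    rw [map_mul, map_inv, Equiv.Perm.mul_apply, Equiv.Perm.inv_def, Equiv.symm_apply_eq]
    refine Fin.ext ?_
    rw [walk_apply T (fun a ha => (hlt a ha).2), walk_apply T hlt1]
    simp only [T.hp]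
    exact (heq r (T.hk ▸ hr)).symm
  rw [M_eq_ev] at hm
  exact key ⟨m, hm, rfl⟩

theorem L_le_normalizer : L T ≤ Subgroup.normalizer (M T : Set G) := by
  rw [L, Subgroup.closure_le]
  rintro _ (rfl | ⟨g, hg, rfl⟩)
  · exact Subgroup.mem_normalizer_fintype fun m hm => tEl_conj_M T hm
  · exact Subgroup.normalizer_commutator_ge_left (H1 T) (H1 T) (x_mem_H1 T hg)

/-- The centraliser of `M` is trivial. -/
theorem centralizer_M : Subgroup.centralizer (M T : Set G) = ⊥ := by
  have hle : Subgroup.centralizer (M T : Set G) ≤ T.A.cent centWords := fun c hc => by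
    refine T.A.mem_cent.2 fun w hw => ?_
    obtain ⟨hev, hlt⟩ := Bool.and_eq_true_iff.1 (List.all_eq_true.1 cent_words_ok.1 w hw)
    refine Subgroup.mem_centralizer_iff.1 hc _ (even_mem_M T w (Nat.eq_of_beq_eq_true hev) fun g hg => ?_)
    have := List.all_eq_true.1 hlt g hg
    simp only [Bool.and_eq_true, Nat.ble_eq, Nat.blt_eq] at this
    exact mem_sGens.2 this
  have hchain : ∀ i, i ≤ 10 → T.A.CentChain (chainWords (10 - i)) (centCands.drop (10 - i)) := by
    intro i
    induction i with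
    | zero =>
      intro _
      rw [List.drop_of_length_le (by rw [chain_len])]
      show ∀ g < T.A.k, [g] ∈ chainWords 10
      rw [T.hk]
      decide +kernel
    | succ i ih =>
      intro hi
      obtain ⟨n, hn⟩ : ∃ n, n = 10 - (i + 1) := ⟨_, rfl⟩
      have hn' : 10 - i = n + 1 := by omega
      have ih' := ih (by omega)
      rw [hn'] at ih'
      rw [← hn, List.drop_eq_getElem_cons (show n < centCands.length by rw [chain_len]; omega),
        ← List.getD_eq_getElem centCands (0, []) (show n < centCands.length by rw [chain_len]; omega)]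
      have hok : chainOK n = true := by
        have : n < 10 := by omega
        interval_cases n
        exacts [chain0, chain1, chain2, chain3, chain4, chain5, chain6, chain7, chain8, chain9]
      rw [chainOK, Bool.and_eq_true] at hok
      refine ⟨by rw [T.hk]; exact hok.1, by rw [T.hZ, T.hk, T.hp]; exact hok.2, ?_⟩
      exact ih'
  have h1 := T.A.card_cent_le T.center _ _ (hchain 10 le_rfl)
  rw [show (10 : ℕ) - 10 = 0 from rfl, List.drop_zero, cent_words_ok.2.1] at h1
  rw [eq_bot_iff, ← (T.A.cent centWords).card_le_one_iff_eq_bot.1 (by simpa [chainWords] using h1)]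
  exact hle

end Cfsg.Lib.CosetEnum.Fi23O8
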