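import Cfsg.Agent.Lib.CosetEnum.Fi23O8.Group
import Cfsg.Agent.S0293

/-!
# The derived group is PΩ⁺(8, 3)

The generators act on the points of the first orbit as reflections along vectors of norm one.
-/

set_option autoImplicit false
set_option maxRecDepth 100000
set_option linter.unusedSectionVars false

open scoped commutatorElement Matrix
open Cfsg.Lib.Linear.Orth

namespace Cfsg.Lib.CosetEnum.Fi23O8

theorem vecOK_get : ∀ {m s : ℕ}, vecOK m s = true → ∀ j, s ≤ j → j < s + m →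
    qfc (ptVec j) = 1 ∧ idxTab.getP (code (ptVec j)) = j ∧ idxTab.getP (code (fun k => - ptVec j k)) = j ∧
      ∀ g ∈ sGens, idxTab.getP (code (move (vec (centres.getD (g - 1) 0)) (ptVec j))) = posTab.getP (mv g (ordPt j))
  | 0, s, _, j, h1, h2 => by omega
  | m + 1, s, hc, j, h1, h2 => by
    simp only [vecOK, force_eq, Bool.and_eq_true] at hc
    rcases Nat.eq_or_lt_of_le h1 with h | h
    · subst h
      simpa [List.all_eq_true, Nat.beq_eq, and_assoc] using hc.1
    · exact vecOK_get hc.2 j h (by omega)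

theorem allVecOK_get : ∀ {m s : ℕ}, allVecOK m s = true → ∀ c, s ≤ c → c < s + m → qfc (vec c) = 1 →
    idxTab.getP c < 1080 ∧ (code (ptVec (idxTab.getP c)) = c ∨ code (fun k => - ptVec (idxTab.getP c) k) = c)
  | 0, s, _, c, h1, h2, _ => by omega
  | m + 1, s, hc, c, h1, h2, h3 => by
    simp only [allVecOK, force_eq, Bool.and_eq_true] at hc
    rcases Nat.eq_or_lt_of_le h1 with h | h
    · subst h
      simpa [h3, Nat.blt_eq, Nat.beq_eq] using hc.1
    · exact allVecOK_get hc.2 c h (by omega) h3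

theorem sign_cases : ∀ ε : ZMod 3, ε ≠ 0 → ε = 1 ∨ ε = -1 := by decide

theorem vec_facts {j : ℕ} (hj : j < 1080) : qf (ptVec j) = 1 ∧
    ∀ ε : ZMod 3, ε ≠ 0 → idxTab.getP (code (ε • ptVec j)) = j := by
  obtain ⟨h1, h2, h3, -⟩ := vecOK_get vec_ok j (Nat.zero_le _) (by omega)
  refine ⟨(qf_eq _).trans h1, fun ε hε => ?_⟩
  rcases sign_cases ε hε with rfl | rfl
  · rwa [one_smul]
  · rw [neg_one_smul]; exact h3

theorem norm_one {x : I8 → ZMod 3} (hx : qf x = 1) :
    idxTab.getP (code x) < 1080 ∧ ∃ ε : ZMod 3, ε ≠ 0 ∧ x = ε • ptVec (idxTab.getP (code x)) := by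
  obtain ⟨h1, h2⟩ := allVecOK_get all_vec_ok (code x) (Nat.zero_le _) (by have := code_lt x; omega)
    (by rw [vec_code, ← qf_eq]; exact hx)
  refine ⟨h1, ?_⟩
  rcases h2 with h2 | h2
  · exact ⟨1, one_ne_zero, by rw [one_smul]; exact (code_injective h2).symm⟩
  · exact ⟨-1, by decide, by rw [neg_one_smul]; exact (code_injective h2).symm⟩

theorem vec_inj {i j : ℕ} (hi : i < 1080) (hj : j < 1080) {ε δ : ZMod 3} (hε : ε ≠ 0) (hδ : δ ≠ 0)
    (h : ε • ptVec i = δ • ptVec j) : i = j := by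
  have := congrArg (fun x => idxTab.getP (code x)) h
  simpa [(vec_facts hi).2 ε hε, (vec_facts hj).2 δ hδ] using this

theorem space8 : ∃ B : LinearMap.BilinForm (ZMod 3) (I8 → ZMod 3), Space qf B := exists_space_plus 4

/-- The polar form as a bilinear form. -/
noncomputable def B8 : LinearMap.BilinForm (ZMod 3) (I8 → ZMod 3) := space8.choose

theorem C8 : Space qf B8 := space8.choose_spec

theorem B8_eq (u v : I8 → ZMod 3) : B8 u v = pol u v := (C8.polar u v).symm.trans (polar_eq u v)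

/-- A reflection along a vector of norm one. -/
noncomputable def refl (v : I8 → ZMod 3) (hv : qf v = 1) : O8 :=
  rI C8 v (by rw [hv]; exact one_ne_zero)

theorem rGL_move {v : I8 → ZMod 3} (hv : qf v = 1) (x : I8 → ZMod 3) :
    (rGL qf v).val *ᵥ x = move v x := by
  rw [rGL_act C8 (by rw [hv]; exact one_ne_zero), hv, B8_eq]
  funext k
  rw [inv_one]
  have h : ∀ a p b : ZMod 3, a - 1 * p * b = a + 2 * p * b := by decide
  exact h (x k) (pol v x) (v k)

theorem rGL_smul {v : I8 → ZMod 3} (hv : qf v = 1) {ε : ZMod 3} (hε : ε ≠ 0) :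
    rGL qf (ε • v) = rGL qf v := by
  have hv' : qf (ε • v) = 1 := by
    rw [C8.smul, hv]
    rcases sign_cases ε hε with rfl | rfl <;> decide
  refine gl_ext fun x => ?_
  rw [rGL_move hv', rGL_move hv]
  funext k
  have h : ∀ a b : ZMod 3, a ≠ 0 → a * (a * b) = b := by decide
  have hp : pol (ε • v) x = ε * pol v x := by
    rw [← B8_eq, ← B8_eq, map_smul, LinearMap.smul_apply, smul_eq_mul]
  simp only [move, hp, Pi.smul_apply, smul_eq_mul]
  linear_combination 2 * h ε (pol v x * v k) hε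

variable {G : Type*} [Group G] [Finite G] (T : Tab23 G)

/-- The vector of a generator. -/
def gC (g : ℕ) : I8 → ZMod 3 := vec (centres.getD (g - 1) 0)

theorem gC_norm {g : ℕ} (hg : g ∈ sGens) : qf (gC g) = 1 := by
  have := List.all_eq_true.1 gens_ok g hg
  simp only [Bool.and_eq_true, decide_eq_true_eq] at this
  exact (qf_eq _).trans this.1.1.2

theorem place_gPt {g : ℕ} (hg : g ∈ sGens) : place (gPt T (mem_sGens.1 hg).2) < 1080 ∧
    ∃ ε : ZMod 3, ε ≠ 0 ∧ gC g = ε • ptVec (place (gPt T (mem_sGens.1 hg).2)) := by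
  have h := List.all_eq_true.1 gens_ok g hg
  simp only [Bool.and_eq_true, decide_eq_true_eq, Nat.blt_eq, Nat.beq_eq] at h
  obtain ⟨-, ε, hε, he⟩ := norm_one (gC_norm hg)
  have hcode : code (gC g) = centres.getD (g - 1) 0 := by
    have : ∀ g ∈ sGens, code (gC g) = centres.getD (g - 1) 0 := by decide +kernel
    exact this g hg
  refine ⟨h.1.1.1, ε, hε, ?_⟩
  rw [hcode, h.1.2] at he
  exact he

/-- An isometry and an element moving the points of the first orbit alike. -/
def Alike (p : O8 × G) : Prop :=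
  p.2 ∈ H1 T ∧ ∀ q, place q < 1080 → ∃ ε : ZMod 3, ε ≠ 0 ∧
    (p.1 : GL I8 (ZMod 3)).val *ᵥ ptVec (place q) = ε • ptVec (place (T.A.f p.2 q))

/-- The pairs of a reflection and a generator, with what they generate. -/
noncomputable def graph : Subgroup (O8 × G) :=
  Subgroup.closure {p | ∃ g, ∃ hg : g ∈ sGens, p = (refl (gC g) (gC_norm hg), T.A.x g)}

theorem graph_alike {p : O8 × G} (hp : p ∈ graph T) : Alike T p := by
  induction hp using Subgroup.closure_induction with
  | mem p hp =>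
    obtain ⟨g, hg, rfl⟩ := hp
    refine ⟨x_mem_H1 T hg, fun q hq => ?_⟩
    have hj := (vecOK_get vec_ok (place q) (Nat.zero_le _) (by omega)).2.2.2 g hg
    rw [ordPt_place, ← img_apply T (mem_sGens.1 hg).2] at hj
    have hn : qf (move (gC g) (ptVec (place q))) = 1 := by
      rw [← rGL_move (gC_norm hg), mem_iso.1 (rGL_mem C8 (by rw [gC_norm hg]; exact one_ne_zero))]
      exact (vec_facts hq).1
    obtain ⟨-, ε, hε, he⟩ := norm_one hn
    refine ⟨ε, hε, ?_⟩
    show (rGL qf (gC g)).val *ᵥ _ = _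
    rw [rGL_move (gC_norm hg), he]
    simp only [gC, hj]
    rfl
  | one => exact ⟨one_mem _, fun q _ => ⟨1, one_ne_zero, by simp⟩⟩
  | mul p r _ _ hp hr =>
    refine ⟨mul_mem hp.1 hr.1, fun q hq => ?_⟩
    obtain ⟨ε, hε, he⟩ := hr.2 q hq
    obtain ⟨δ, hδ, hd⟩ := hp.2 (T.A.f r.2 q) (((H1_le_keep T hr.1).1 q).2 hq)
    refine ⟨ε * δ, mul_ne_zero hε hδ, ?_⟩
    show ((p.1 : GL I8 (ZMod 3)) * (r.1 : GL I8 (ZMod 3))).val *ᵥ _ = _
    rw [mul_act, he, Matrix.mulVec_smul, hd, smul_smul, Prod.snd_mul, map_mul, Equiv.Perm.mul_apply]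
  | inv p _ hp =>
    refine ⟨inv_mem hp.1, fun q hq => ?_⟩
    obtain ⟨r, hr⟩ := (T.A.f p.2).surjective q
    have hr1 : place r < 1080 := ((H1_le_keep T hp.1).1 r).1 (hr ▸ hq)
    obtain ⟨ε, hε, he⟩ := hp.2 r hr1
    rw [hr] at he
    refine ⟨ε⁻¹, inv_ne_zero hε, ?_⟩
    show ((p.1 : GL I8 (ZMod 3))⁻¹ : GL I8 (ZMod 3)).val *ᵥ _ = _
    rw [Prod.snd_inv, map_inv, Equiv.Perm.inv_def, ← hr, Equiv.symm_apply_apply, hr]
    have := congrArg (fun y => ((p.1 : GL I8 (ZMod 3))⁻¹ : GL I8 (ZMod 3)).val *ᵥ y) he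
    simp only [inv_act, Matrix.mulVec_smul] at this
    rw [this, smul_smul, inv_mul_cancel₀ hε, one_smul]

/-- The first point of the first orbit. -/
noncomputable def p1 : Fin 31671 := pl (show 0 < 31671 by norm_num)

theorem p1_eq : p1 = gPt T (g := 1) (by norm_num) := Fin.ext roots_ok.1

theorem place_pl {j : ℕ} (hj : j < 31671) : place (pl hj) = j :=
  (parentOK_get parent_ok j (Nat.zero_le _) (by omega)).2.1

theorem graph_fst_inj {h : G} (hp : ((1 : O8), h) ∈ graph T) : h = 1 := by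
  obtain ⟨h1, h2⟩ := graph_alike T hp
  refine (Subgroup.mem_bot).1 (centralizer_M T ▸ Subgroup.mem_centralizer_iff.2 fun m hm => ?_)
  have hc : H1 T ≤ Subgroup.centralizer ({h} : Set G) := by
    rw [H1, Subgroup.closure_le]
    rintro _ ⟨g, hg, rfl⟩
    rw [SetLike.mem_coe, Subgroup.mem_centralizer_singleton_iff]
    obtain ⟨hpl, -⟩ := place_gPt T hg
    obtain ⟨ε, hε, he⟩ := h2 _ hpl
    simp only [Subgroup.coe_one, Units.val_one, Matrix.one_mulVec] at he
    have hq := vec_inj hpl (((H1_le_keep T h1).1 _).2 hpl) one_ne_zero hε ((one_smul _ _).trans he)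
    have hfix : T.A.f h (gPt T (mem_sGens.1 hg).2) = gPt T (mem_sGens.1 hg).2 := by
      apply Fin.ext
      rw [← (placeOK_get place_ok _ (Nat.zero_le _) (show (T.A.f h (gPt T (mem_sGens.1 hg).2)).1 < _ by omega)).2,
        ← (placeOK_get place_ok _ (Nat.zero_le _) (show (gPt T (mem_sGens.1 hg).2).1 < _ by omega)).2]
      exact congrArg ordPt hq.symm
    have := (T.A.commute_delta_iff _ _).2 hfix
    rw [delta_gPt] at this
    exact this.symm
  exact Subgroup.mem_centralizer_singleton_iff.1 (hc (M_le_H1 T hm))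

theorem graph_snd_surj {h : G} (hh : h ∈ H1 T) : ∃ A, (A, h) ∈ graph T := by
  induction hh using Subgroup.closure_induction with
  | mem x hx => obtain ⟨g, hg, rfl⟩ := hx; exact ⟨_, Subgroup.subset_closure ⟨g, hg, rfl⟩⟩
  | one => exact ⟨1, one_mem _⟩
  | mul x y _ _ hx hy => exact ⟨_, mul_mem hx.choose_spec hy.choose_spec⟩
  | inv x _ hx => exact ⟨_, inv_mem hx.choose_spec⟩

/-- The isometries of the graph form the reflection subgroup. -/
theorem graph_fst_eq : (graph T).map (MonoidHom.fst O8 G) = Cfsg.reflectionSubgroup qf 1 := by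
  refine le_antisymm ?_ ?_
  · rw [graph, MonoidHom.map_closure, Subgroup.closure_le]
    rintro _ ⟨_, ⟨g, hg, rfl⟩, rfl⟩
    exact rI_mem_reflectionSubgroup C8 one_ne_zero (gC_norm hg)
  have hall : ∀ v, ∀ hv : qf v = 1, refl v hv ∈ (graph T).map (MonoidHom.fst O8 G) := by
    intro v hv
    obtain ⟨hj, ε, hε, he⟩ := norm_one hv
    obtain ⟨j, hjdef⟩ : ∃ j, j = idxTab.getP (code v) := ⟨_, rfl⟩
    rw [← hjdef] at hj he
    obtain ⟨h, hh, hr, hhe⟩ := reach T j (by omega)
    obtain ⟨A, hA⟩ := graph_snd_surj T hh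
    have hroot : rootOf j = 0 := by rw [rootOf_eq, if_pos hj]
    have h1 : (1 : ℕ) ∈ sGens := by decide
    obtain ⟨-, δ, hδ, hd⟩ := place_gPt T h1
    have hp : gPt T (mem_sGens.1 h1).2 = pl hr := by
      rw [show (pl hr : Fin 31671) = p1 from Fin.ext (by show ordPt _ = ordPt _; rw [hroot]), p1_eq T]
    obtain ⟨η, hη, hAv⟩ := (graph_alike T hA).2 (pl hr) (by rw [place_pl, hroot]; norm_num)
    simp only [hhe, place_pl] at hAv
    rw [hp, place_pl] at hd
    refine ⟨(A, h) * (refl (gC 1) (gC_norm h1), T.A.x 1) * (A, h)⁻¹,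
      mul_mem (mul_mem hA (Subgroup.subset_closure ⟨1, h1, rfl⟩)) (inv_mem hA), Subtype.ext ?_⟩
    show (A : GL I8 (ZMod 3)) * rGL qf (gC 1) * (A : GL I8 (ZMod 3))⁻¹ = rGL qf v
    rw [rGL_conj C8 (by rw [gC_norm h1]; exact one_ne_zero) A.2, hd, Matrix.mulVec_smul, hAv, smul_smul, he,
      rGL_smul (vec_facts hj).1 (mul_ne_zero hδ hη), rGL_smul (vec_facts hj).1 hε]
  rw [Cfsg.reflectionSubgroup, Subgroup.closure_le]
  intro r hr
  obtain ⟨v, hv, he⟩ := (mem_reflectionsOfNorm_iff C8 one_ne_zero).1 hr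
  rw [show r = refl v hv from Subtype.ext he]
  exact hall v hv

theorem omega8_perfect : commutator ↥(Cfsg.Omega (ZMod 3) qf) = ⊤ := by
  have h7 : 7 ≤ Fintype.card I8 := by simp [I8]
  let f : ↥(Cfsg.Omega (ZMod 3) qf) →* GL I8 (ZMod 3) :=
    (isometryGroup (ZMod 3) qf).subtype.comp (Cfsg.Omega (ZMod 3) qf).subtype
  have hf : Function.Injective f := fun a b e => Subtype.ext (Subtype.ext e)
  have hrange : f.range = Root qf B8 ⊤ := by
    rw [← omegaGL_eq C8 (by omega)]
    show MonoidHom.range _ = (Cfsg.Omega (ZMod 3) qf).map _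
    rw [MonoidHom.range_comp, Subgroup.range_subtype]
  refine Subgroup.map_injective hf (le_antisymm (Subgroup.map_mono le_top) ?_)
  rw [_root_.commutator_def, Subgroup.map_commutator, ← MonoidHom.range_eq_map, hrange]
  exact root_le_commutator C8 h7

theorem omega_eq_commutator : ⁅Cfsg.reflectionSubgroup qf 1, Cfsg.reflectionSubgroup qf 1⁆ =
    Cfsg.Omega (ZMod 3) qf := by
  refine le_antisymm (Subgroup.commutator_mono le_top le_top) ?_
  haveI := reflectionSubgroup_normal C8 (c := 1) one_ne_zero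
  have hle : Cfsg.Omega (ZMod 3) qf ≤ Cfsg.reflectionSubgroup qf 1 := by
    haveI : Fact (Nat.Prime 2) := ⟨Nat.prime_two⟩
    haveI : IsCyclic (O8 ⧸ Cfsg.reflectionSubgroup qf 1) := isCyclic_of_prime_card (p := 2) (by
      rw [← Subgroup.index_eq_card]
      exact reflectionSubgroup_index C8 (by simp [I8]) one_ne_zero)
    let := IsCyclic.commGroup (α := O8 ⧸ Cfsg.reflectionSubgroup qf 1)
    have := Abelianization.commutator_subset_ker (QuotientGroup.mk' (Cfsg.reflectionSubgroup qf 1))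
    rwa [QuotientGroup.ker_mk'] at this
  calc Cfsg.Omega (ZMod 3) qf = ⁅Cfsg.Omega (ZMod 3) qf, Cfsg.Omega (ZMod 3) qf⁆ := by
        have := congrArg (Subgroup.map (Cfsg.Omega (ZMod 3) qf).subtype) omega8_perfect
        rw [_root_.commutator_def, Subgroup.map_commutator, ← MonoidHom.range_eq_map, Subgroup.range_subtype]
          at this
        exact this.symm
    _ ≤ _ := Subgroup.commutator_mono hle hle

/-- `Ω⁺(8, 3)` maps onto `M`, with the centre as kernel, moving the points alike. -/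
theorem exists_theta : ∃ Θ : ↥(Cfsg.Omega (ZMod 3) qf) →* G, Θ.range = M T ∧
    Θ.ker = Subgroup.center ↥(Cfsg.Omega (ZMod 3) qf) ∧ ∀ (w : ↥(Cfsg.Omega (ZMod 3) qf)) q, place q < 1080 → ∃ ε : ZMod 3, ε ≠ 0 ∧
      ((w : O8) : GL I8 (ZMod 3)).val *ᵥ ptVec (place q) = ε • ptVec (place (T.A.f (Θ w) q)) := by
  obtain ⟨Γ, hΓ⟩ : ∃ Γ, Γ = ⁅graph T, graph T⁆ := ⟨_, rfl⟩
  have hΓle : Γ ≤ graph T := hΓ ▸ Subgroup.commutator_le_self _
  have h1 : Γ.map (MonoidHom.fst O8 G) = Cfsg.Omega (ZMod 3) qf := by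
    rw [hΓ, Subgroup.map_commutator, graph_fst_eq, omega_eq_commutator]
  have h2 : Γ.map (MonoidHom.snd O8 G) = M T := by
    rw [hΓ, Subgroup.map_commutator, M]
    have : (graph T).map (MonoidHom.snd O8 G) = H1 T := by
      refine le_antisymm ?_ fun h hh => ?_
      · rintro _ ⟨p, hp, rfl⟩; exact (graph_alike T hp).1
      · obtain ⟨A, hA⟩ := graph_snd_surj T hh; exact ⟨_, hA, rfl⟩
    rw [this]
  have hinj : ∀ A h h', (A, h) ∈ Γ → (A, h') ∈ Γ → h = h' := fun A h h' a b => by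
    have := graph_fst_inj T (h := h'⁻¹ * h) (by
      have := mul_mem (inv_mem (hΓle b)) (hΓle a)
      rwa [Prod.inv_mk, Prod.mk_mul_mk, inv_mul_cancel] at this)
    exact (inv_mul_eq_one.1 this).symm
  have hex : ∀ w : ↥(Cfsg.Omega (ZMod 3) qf), ∃ h, ((w : O8), h) ∈ Γ := fun w => by
    obtain ⟨⟨A, h⟩, hp, he⟩ := (le_of_eq h1.symm w.2 : (w : O8) ∈ Γ.map (MonoidHom.fst O8 G))
    exact ⟨h, by rw [← show A = (w : O8) from he]; exact hp⟩
  choose θ hθ using hex
  let Θ : ↥(Cfsg.Omega (ZMod 3) qf) →* G := MonoidHom.mk' θ fun a b => hinj _ _ _ (hθ _) (by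
    have := mul_mem (hθ a) (hθ b)
    rwa [Prod.mk_mul_mk, ← Subgroup.coe_mul] at this)
  refine ⟨Θ, ?_, ?_, fun w q hq => (graph_alike T (hΓle (hθ w))).2 q hq⟩
  · refine le_antisymm ?_ fun m hm => ?_
    · rintro _ ⟨w, rfl⟩
      exact le_of_eq h2 ⟨_, hθ w, rfl⟩
    · obtain ⟨⟨A, h⟩, hp, rfl⟩ := (le_of_eq h2.symm hm : m ∈ Γ.map (MonoidHom.snd O8 G))
      exact ⟨⟨A, le_of_eq h1 ⟨_, hp, rfl⟩⟩, hinj _ _ _ (hθ _) hp⟩
  · refine le_antisymm (fun w hw => ?_) fun z hz => ?_
    · have hw1 : θ w = 1 := hw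
      have hfix : ∀ v, qf v = 1 → ∃ ε : ZMod 3, ε ≠ 0 ∧ ((w : O8) : GL I8 (ZMod 3)).val *ᵥ v = ε • v := by
        intro v hv
        obtain ⟨hj, δ, hδ, hd⟩ := norm_one hv
        obtain ⟨j, hjdef⟩ : ∃ j, j = idxTab.getP (code v) := ⟨_, rfl⟩
        rw [← hjdef] at hj hd
        obtain ⟨ε, hε, he⟩ := (graph_alike T (hΓle (hθ w))).2 (pl (j := j) (by omega)) (by rw [place_pl]; exact hj)
        simp only [hw1, map_one, Equiv.Perm.one_apply, place_pl] at he
        exact ⟨ε, hε, by rw [hd, Matrix.mulVec_smul, he, smul_comm]⟩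
      have hcen : ∀ r ∈ Cfsg.reflectionSubgroup qf 1, (w : O8) * r = r * w := by
        intro r hr
        induction hr using Subgroup.closure_induction with
        | mem r hr =>
          obtain ⟨v, hv, he⟩ := (mem_reflectionsOfNorm_iff C8 one_ne_zero).1 hr
          obtain ⟨ε, hε, hev⟩ := hfix v hv
          apply Subtype.ext
          show ((w : O8) : GL I8 (ZMod 3)) * (r : GL I8 (ZMod 3)) = (r : GL I8 (ZMod 3)) * (w : O8)
          rw [he, ← mul_inv_eq_iff_eq_mul, rGL_conj C8 (by rw [hv]; exact one_ne_zero) (w : O8).2, hev,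
            rGL_smul hv hε]
        | one => simp
        | mul a b _ _ ha hb => rw [← mul_assoc, ha, mul_assoc, hb, mul_assoc]
        | inv a _ ha => exact eq_inv_mul_of_mul_eq (by rw [← mul_assoc, ← ha, mul_assoc, mul_inv_cancel, mul_one])
      refine Subgroup.mem_center_iff.2 fun z => Subtype.ext (hcen _ ?_).symm
      have := le_of_eq omega_eq_commutator.symm z.2
      exact Subgroup.commutator_le_self _ this
    · have hz' : θ z = 1 := by
        have hpm := omega_center_pm C8 (by simp [I8]) hz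
        obtain ⟨hh1, hh2⟩ := graph_alike T (hΓle (hθ z))
        refine (Subgroup.mem_bot).1 (centralizer_M T ▸ Subgroup.mem_centralizer_iff.2 fun m hm => ?_)
        have hfix : ∀ q, place q < 1080 → T.A.f (θ z) q = q := by
          intro q hq
          obtain ⟨ε, hε, he⟩ := hh2 q hq
          have hq' := ((H1_le_keep T hh1).1 q).2 hq
          have : place (T.A.f (θ z) q) = place q := by
            rcases hpm with e | e <;> rw [e] at he
            · rw [Matrix.one_mulVec] at he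
              exact (vec_inj hq hq' one_ne_zero hε ((one_smul _ _).trans he)).symm
            · rw [Matrix.neg_mulVec, Matrix.one_mulVec] at he
              exact (vec_inj hq hq' (ε := -1) (by decide) hε (by rw [neg_one_smul]; exact he)).symm
          rw [← pl_place (T.A.f (θ z) q)]
          exact Fin.ext (by show ordPt _ = _; rw [this]; exact congrArg Fin.val (pl_place q))
        have hle : H1 T ≤ Subgroup.centralizer ({θ z} : Set G) := by
          rw [H1, Subgroup.closure_le]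
          rintro _ ⟨g, hg, rfl⟩
          rw [SetLike.mem_coe, Subgroup.mem_centralizer_singleton_iff, ← delta_gPt T (mem_sGens.1 hg).2]
          exact ((T.A.commute_delta_iff _ _).2 (hfix _ (place_gPt T hg).1)).symm
        exact Subgroup.mem_centralizer_singleton_iff.1 (hle (M_le_H1 T hm))
      exact hz'

theorem nonempty_M_equiv : Nonempty (↥(M T) ≃* Cfsg.POmega (ZMod 3) qf) := by
  obtain ⟨Θ, hr, hk, -⟩ := exists_theta T
  exact ⟨((QuotientGroup.quotientMulEquivOfEq hk.symm).trans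
    ((QuotientGroup.quotientKerEquivRange Θ).trans (MulEquiv.subgroupCongr hr))).symm⟩

theorem card_M : Nat.card ↥(M T) = 4952179814400 := by
  obtain ⟨e⟩ := nonempty_M_equiv T
  rw [Nat.card_congr e.toEquiv]
  haveI : Fact (Nat.Prime 3) := ⟨Nat.prime_three⟩
  have h := Cfsg.Agent.S0293.result (F := ZMod 3) (q := 3) (ZMod.card 3) 4 le_rfl
  have hg : Nat.gcd 4 (3 ^ 4 - 1) = 4 := by norm_num
  rw [hg] at h
  norm_num [Finset.prod_range_succ] at h
  show Nat.card (Cfsg.POmega (ZMod 3) (Cfsg.quadFormPlus 4 (ZMod 3))) = _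
  omega

end Cfsg.Lib.CosetEnum.Fi23O8
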