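import Cfsg.Agent.Lib.CosetEnum.Fi23O8.Seven
import Cfsg.Agent.Lib.Core.Layer
import Cfsg.Prelude.Def_FischerSpaces

/-!
# The subgroup PΩ⁺(8, 3):S₃ of Fi23

`L` has `M` as generalized Fitting subgroup with quotient the symmetric group of degree three, is generated
by the members it contains, and the centraliser in `L` of each of them is twice `Ω(7, 3)`.
-/

set_option autoImplicit false
set_option maxRecDepth 100000
set_option linter.unusedSectionVars false
set_option linter.style.haveILetI false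

open scoped Matrix commutatorElement
open Cfsg.Lib.Linear.Orth

namespace Cfsg.Lib.CosetEnum.Fi23O8

/-- A group generated by two involutions with product of order three is the symmetric group of degree three. -/
theorem nonempty_perm_three {Q : Type*} [Group Q] [Finite Q] {a b : Q} (ha : a * a = 1) (hb : b * b = 1)
    (hab : (a * b) ^ 3 = 1) (ha1 : a ≠ 1) (hne : a ≠ b) (hgen : Subgroup.closure ({a, b} : Set Q) = ⊤) :
    Nonempty (Q ≃* Equiv.Perm (Fin 3)) := by
  have hai := inv_eq_of_mul_eq_one_right ha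
  have hbi := inv_eq_of_mul_eq_one_right hb
  have haba : a * b * a = b * a * b := by
    have h : (a * b * a) * (b * a * b) = 1 := by rw [← hab, pow_succ, pow_two]; simp only [mul_assoc]
    rw [eq_inv_of_mul_eq_one_left h, mul_inv_rev, mul_inv_rev, hai, hbi, mul_assoc]
  have hne1 : a * b ≠ 1 := fun h => hne ((eq_inv_of_mul_eq_one_left h).trans hbi)
  obtain ⟨K, hK⟩ : ∃ K, K = Subgroup.zpowers a := ⟨_, rfl⟩
  have h2 : Nat.card ↥K = 2 := by
    rw [hK, Nat.card_zpowers]
    exact orderOf_eq_prime (by rw [pow_two, ha]) ha1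
  have hmemK : ∀ x ∈ K, x = 1 ∨ x = a := by
    intro x hx
    rw [hK, Subgroup.mem_zpowers_iff] at hx
    obtain ⟨n, rfl⟩ := hx
    rcases Int.even_or_odd' n with ⟨m, rfl | rfl⟩
    · left; rw [zpow_mul, zpow_two, ha, one_zpow]
    · right; rw [zpow_add, zpow_mul, zpow_two, ha, one_zpow, one_mul, zpow_one]
  let f : Fin 3 × ↥K → Q := fun p => ![1, b, a * b] p.1 * p.2
  have haK : a ∈ K := hK ▸ Subgroup.mem_zpowers a
  have hcov : ∀ x : Q, ∃ p, f p = x := by
    intro x
    have hx : x ∈ Subgroup.closure ({a, b} : Set Q) := hgen ▸ Subgroup.mem_top x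
    have hstep : ∀ g ∈ ({a, b} : Set Q), ∀ p, ∃ r, f r = g * f p := by
      rintro g hg ⟨i, k⟩
      simp only [Set.mem_insert_iff, Set.mem_singleton_iff] at hg
      rcases hg with hg | hg <;> rw [hg] <;> fin_cases i
      · exact ⟨(0, ⟨a * k, mul_mem haK k.2⟩), by simp [f]⟩
      · exact ⟨(2, k), by simp [f, mul_assoc]⟩
      · exact ⟨(1, k), by simp only [f]; simp [← mul_assoc, ha]⟩
      · exact ⟨(1, k), by simp [f]⟩
      · exact ⟨(0, k), by simp [f, ← mul_assoc, hb]⟩
      · refine ⟨(2, ⟨a * k, mul_mem haK k.2⟩), ?_⟩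
        show a * b * (a * k) = b * (a * b * k)
        rw [← mul_assoc, haba]; simp only [mul_assoc]
    induction hx using Subgroup.closure_induction_left with
    | one => exact ⟨(0, 1), by simp [f]⟩
    | mul_left g hg y _ ih => obtain ⟨p, rfl⟩ := ih; exact hstep g hg p
    | inv_mul_cancel g hg y _ ih =>
      obtain ⟨p, rfl⟩ := ih
      have : g⁻¹ = g := by rcases hg with rfl | rfl <;> assumption
      rw [this]; exact hstep g hg p
  have hle : Nat.card Q ≤ 6 := by
    refine (Nat.card_le_card_of_surjective f hcov).trans ?_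
    rw [Nat.card_prod, h2, Nat.card_fin]
  have h3 : orderOf (a * b) = 3 := haveI := Fact.mk Nat.prime_three; orderOf_eq_prime hab hne1
  have h6 : Nat.card Q = 6 := by
    have d3 : 3 ∣ Nat.card Q := h3 ▸ orderOf_dvd_natCard _
    have d2 : 2 ∣ Nat.card Q := h2 ▸ K.card_subgroup_dvd_card
    have := Nat.card_pos (α := Q)
    omega
  have hidx : K.index = 3 := by
    have := K.card_mul_index
    rw [h2, h6] at this
    omega
  have hinj : Function.Injective (MulAction.toPermHom Q (Q ⧸ K)) := by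
    rw [← MonoidHom.ker_eq_bot_iff, ← Subgroup.normalCore_eq_ker, eq_bot_iff]
    intro x hx
    rw [Subgroup.mem_bot]
    rcases hmemK x (Subgroup.normalCore_le K hx) with h | h
    · exact h
    exfalso
    subst h
    rcases hmemK _ (hx b) with h | h
    · exact ha1 (by rwa [mul_inv_eq_one, mul_eq_left] at h)
    · have hc : x * b = b * x := (mul_inv_eq_iff_eq_mul.1 h).symm
      refine hne1 ?_
      have hsq : (x * b) * (x * b) = 1 := by
        calc (x * b) * (x * b) = (x * b) * (b * x) := by rw [← hc]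
          _ = x * (b * b) * x := by group
          _ = 1 := by rw [hb, mul_one, ha]
      rwa [pow_succ, pow_two, hsq, one_mul] at hab
  have : Finite (Q ⧸ K) := inferInstance
  have hq : Nat.card (Q ⧸ K) = 3 := by rw [← Subgroup.index_eq_card, hidx]
  let e := Finite.equivFinOfCardEq hq
  exact ⟨(MulEquiv.ofBijective _ ((Nat.bijective_iff_injective_and_card _).2
    ⟨hinj, by rw [h6, Nat.card_perm, hq]; rfl⟩)).trans e.permCongrHom⟩

/-- A central involution splits off a complement of index two. -/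
theorem nonempty_split {X : Type*} [Group X] (z : X) (hz : z * z = 1) (hzc : ∀ x, z * x = x * z)
    (K : Subgroup X) (hzK : z ∉ K) (hcov : ∀ x, x ∈ K ∨ z * x ∈ K) :
    Nonempty (X ≃* Multiplicative (ZMod 2) × ↥K) := by
  have hz1 : z ≠ 1 := fun h => hzK (h ▸ one_mem K)
  have hcard : Nat.card ↥(Subgroup.zpowers z) = 2 := by
    rw [Nat.card_zpowers]
    exact orderOf_eq_prime (by rw [pow_two, hz]) hz1
  have hmem : ∀ x ∈ Subgroup.zpowers z, x = 1 ∨ x = z := by
    intro x hx
    rw [Subgroup.mem_zpowers_iff] at hx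
    obtain ⟨n, rfl⟩ := hx
    rcases Int.even_or_odd' n with ⟨m, rfl | rfl⟩
    · left; rw [zpow_mul, zpow_two, hz, one_zpow]
    · right; rw [zpow_add, zpow_mul, zpow_two, hz, one_zpow, one_mul, zpow_one]
  haveI : Finite ↥(Subgroup.zpowers z) := Nat.finite_of_card_ne_zero (by rw [hcard]; norm_num)
  haveI : IsCyclic ↥(Subgroup.zpowers z) := isCyclic_of_prime_card (p := 2) hcard
  let ι : Multiplicative (ZMod 2) ≃* ↥(Subgroup.zpowers z) :=
    mulEquivOfCyclicCardEq (by rw [hcard]; simp)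
  let F : ↥(Subgroup.zpowers z) × ↥K →* X :=
    MonoidHom.noncommCoprod (Subgroup.zpowers z).subtype K.subtype fun u v => by
      rcases hmem _ u.2 with h | h
      · show Commute (u : X) v; rw [h]; exact Commute.one_left _
      · show Commute (u : X) v; rw [h]; exact hzc _
  have hF : Function.Bijective F := by
    refine ⟨(injective_iff_map_eq_one F).2 ?_, fun x => ?_⟩
    · rintro ⟨u, v⟩ h
      replace h : (u : X) * v = 1 := h
      rcases hmem _ u.2 with e | e <;> rw [e] at h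
      · exact Prod.ext (Subtype.ext e) (Subtype.ext (by simpa using h))
      · exfalso; exact hzK (by rw [eq_inv_of_mul_eq_one_left h]; exact inv_mem v.2)
    · rcases hcov x with h | h
      · exact ⟨(1, ⟨x, h⟩), one_mul x⟩
      · exact ⟨(⟨z, Subgroup.mem_zpowers z⟩, ⟨z * x, h⟩), show z * (z * x) = x by rw [← mul_assoc, hz, one_mul]⟩
  exact ⟨((MulEquiv.prodCongr ι (MulEquiv.refl _)).trans (MulEquiv.ofBijective F hF)).symm⟩

variable {G : Type*} [Group G] [Finite G] (T : Tab23 G)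

theorem x1_tEl_cube : (T.A.x 1 * tEl T) ^ 3 = 1 := by
  rw [tEl_eq, ← delta_gPt T (g := 1) (by norm_num)]
  refine delta_cube T _ _ fun h => moved_ok.2.1 ?_
  rw [delta_gPt, Fin.ext_iff, img_apply T (by norm_num)] at h
  exact h

theorem x1_notMem_M : T.A.x 1 ∉ M T := by
  intro h
  obtain ⟨Θ, hr, -, hact⟩ := exists_theta T
  obtain ⟨w, hw⟩ := (le_of_eq hr.symm h : T.A.x 1 ∈ Θ.range)
  have h1 : (1 : ℕ) ∈ sGens := by decide
  -- the reflection and `w` move all points of the first orbit alike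
  obtain ⟨A, hA⟩ : ∃ A : O8, A = (w : O8)⁻¹ * refl (gC 1) (gC_norm h1) := ⟨_, rfl⟩
  have hfix : ∀ q, place q < 1080 → ∃ ε : ZMod 3, ε ≠ 0 ∧
      (A : GL I8 (ZMod 3)).val *ᵥ ptVec (place q) = ε • ptVec (place q) := by
    intro q hq
    obtain ⟨ε, hε, he⟩ := hact w q hq
    obtain ⟨δ, hδ, hd⟩ := (graph_alike T (Subgroup.subset_closure ⟨1, h1, rfl⟩ :
      (refl (gC 1) (gC_norm h1), T.A.x 1) ∈ graph T)).2 q hq
    rw [hw] at he
    refine ⟨δ * ε⁻¹, mul_ne_zero hδ (inv_ne_zero hε), ?_⟩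
    have h' := congrArg (fun y => (((w : O8) : GL I8 (ZMod 3))⁻¹ : GL I8 (ZMod 3)).val *ᵥ y) he
    simp only [inv_act, Matrix.mulVec_smul] at h'
    rw [hA, Subgroup.coe_mul, Subgroup.coe_inv, mul_act, hd, Matrix.mulVec_smul]
    conv_rhs => rw [h', smul_smul, mul_assoc, inv_mul_cancel₀ hε, mul_one]
  -- so the generators' vectors are eigenvectors with one sign
  have hgv : ∀ g ∈ sGens, ∃ ε : ZMod 3, ε ≠ 0 ∧ (A : GL I8 (ZMod 3)).val *ᵥ gC g = ε • gC g := by
    intro g hg
    obtain ⟨hp, δ, hδ, hd⟩ := place_gPt T hg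
    obtain ⟨ε, hε, he⟩ := hfix _ hp
    exact ⟨ε, hε, by rw [hd, Matrix.mulVec_smul, he, smul_comm]⟩
  choose! ε hε hgA using hgv
  have hlink : ∀ g ∈ sGens, ∀ k ∈ sGens, pol (gC g) (gC k) ≠ 0 → ε k = ε g := by
    intro g hg k hk hne
    have hb := C8.B_act A.2 (gC g) (gC k)
    rw [hgA g hg, hgA k hk, map_smul, map_smul, LinearMap.smul_apply, B8_eq, smul_eq_mul, smul_eq_mul,
      ← mul_assoc] at hb
    have : ε k * ε g = 1 := mul_right_cancel₀ hne (by rw [one_mul]; exact hb)
    have hz : ∀ a b : ZMod 3, a * b = 1 → a = b := by decide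
    exact hz _ _ this
  have hall : ∀ g ∈ sGens, ε g = ε 1 := by
    have e : ∀ p ∈ [(1, 2), (2, 3), (3, 4), (4, 5), (5, 6), (6, 7), (3, 8), (8, 9)],
        p.1 ∈ sGens ∧ p.2 ∈ sGens ∧ pol (gC p.1) (gC p.2) ≠ 0 := by decide +kernel
    have st : ∀ p ∈ [(1, 2), (2, 3), (3, 4), (4, 5), (5, 6), (6, 7), (3, 8), (8, 9)], ε p.2 = ε p.1 :=
      fun p hp => hlink _ (e p hp).1 _ (e p hp).2.1 (e p hp).2.2
    have e2 := st (1, 2) (by simp)
    have e3 := (st (2, 3) (by simp)).trans e2
    have e4 := (st (3, 4) (by simp)).trans e3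
    have e5 := (st (4, 5) (by simp)).trans e4
    have e6 := (st (5, 6) (by simp)).trans e5
    have e7 := (st (6, 7) (by simp)).trans e6
    have e8 := (st (3, 8) (by simp)).trans e3
    have e9 := (st (8, 9) (by simp)).trans e8
    intro g hg
    have hg' := mem_sGens.1 hg
    obtain ⟨g1, g2⟩ := hg'
    interval_cases g
    · rfl
    all_goals assumption
  have hscal : (A : GL I8 (ZMod 3)).val = ε 1 • (1 : Matrix I8 I8 (ZMod 3)) := by
    let Bm : Matrix I8 I8 (ZMod 3) := Matrix.of fun r c =>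
      gC (match c with | .inl k => k.1 + 1 | .inr k => k.1 + 5) r
    let Bi : Matrix I8 I8 (ZMod 3) := Matrix.of fun r c =>
      vec ([6061, 836, 9, 4807, 2573, 1, 4890, 2730].getD (match r with | .inl k => k.1 | .inr k => k.1 + 4) 0) c
    have hinv : Bm * Bi = 1 := by decide +kernel
    have hmul : (A : GL I8 (ZMod 3)).val * Bm = ε 1 • Bm := by
      ext r c
      have hc : (match c with | .inl k => k.1 + 1 | .inr k => k.1 + 5 : ℕ) ∈ sGens := by
        rcases c with k | k <;> fin_cases k <;> decide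
      have h' := congrFun (hgA _ hc) r
      rw [hall _ hc] at h'
      exact h'
    have := congrArg (fun X => X * Bi) hmul
    simp only [Matrix.mul_assoc, Matrix.smul_mul, hinv, mul_one] at this
    exact this
  have hdetA : (A : GL I8 (ZMod 3)).val.det = 1 := by
    rw [hscal, Matrix.det_smul, Matrix.det_one, mul_one]
    rcases sign_cases _ (hε 1 h1) with e | e <;> rw [e] <;> simp [I8] <;> decide
  have hdetw : ((w : O8) : GL I8 (ZMod 3)).val.det = 1 := by
    have hd : (Matrix.GeneralLinearGroup.det.comp (isometryGroup (ZMod 3) qf).subtype) (w : O8) = 1 :=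
      MonoidHom.mem_ker.mp (Abelianization.commutator_subset_ker _ w.2)
    have hd' := congrArg Units.val hd
    simpa [Matrix.GeneralLinearGroup.val_det_apply] using hd'
  have hprod : (w : O8) * A = refl (gC 1) (gC_norm h1) := by rw [hA, mul_inv_cancel_left]
  have := congrArg (fun X : O8 => (X : GL I8 (ZMod 3)).val.det) hprod
  simp only [Subgroup.coe_mul, Units.val_mul, Matrix.det_mul, hdetA, hdetw, mul_one] at this
  rw [show ((refl (gC 1) (gC_norm h1) : O8) : GL I8 (ZMod 3)) = rGL qf (gC 1) from rfl,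
    rGL_det C8 (by rw [gC_norm h1]; exact one_ne_zero)] at this
  exact absurd this (by decide)

theorem tEl_notMem_H1 : tEl T ∉ H1 T := by
  intro h
  have := ((H1_le_keep T h).1 p1).2 (by rw [p1, place_pl]; norm_num)
  rw [place, tEl, walk_apply T roots_ok.2.2.2.2.2] at this
  exact moved_ok.1 this

theorem M_le_L : M T ≤ L T := (M_le_H1 T).trans (H1_le_L T)

theorem M_normal : ((M T).subgroupOf (L T)).Normal := by
  refine ⟨fun m hm g => ?_⟩
  exact (Subgroup.mem_normalizer_iff.1 (L_le_normalizer T g.2) m).1 hm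

/-- The quotient is the symmetric group of degree three, and centralisers of the first generator lie in `H1`. -/
theorem quotient_facts : letI := M_normal T; Nonempty (↥(L T) ⧸ (M T).subgroupOf (L T) ≃* Equiv.Perm (Fin 3)) ∧
    ∀ y ∈ L T, T.A.x 1 * y = y * T.A.x 1 → y ∈ M T ∨ T.A.x 1 * y ∈ M T := by
  letI := M_normal T
  obtain ⟨π, hπ⟩ : ∃ π, π = QuotientGroup.mk' ((M T).subgroupOf (L T)) := ⟨_, rfl⟩
  have hker : ∀ u : ↥(L T), π u = 1 ↔ (u : G) ∈ M T := fun u => by
    rw [hπ, QuotientGroup.mk'_apply, QuotientGroup.eq_one_iff, Subgroup.mem_subgroupOf]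
  have hx1 : T.A.x 1 ∈ L T := H1_le_L T (x_mem_H1 T (by decide))
  obtain ⟨a, ha⟩ : ∃ a, a = π ⟨T.A.x 1, hx1⟩ := ⟨_, rfl⟩
  obtain ⟨b, hb⟩ : ∃ b, b = π ⟨tEl T, tEl_mem_L T⟩ := ⟨_, rfl⟩
  have ha2 : a * a = 1 := by
    rw [ha, ← map_mul, hker]; show T.A.x 1 * T.A.x 1 ∈ _; rw [T.A.sq]; exact one_mem _
  have hb2 : b * b = 1 := by
    rw [hb, ← map_mul, hker]; show tEl T * tEl T ∈ _; rw [tEl_sq]; exact one_mem _
  have hab : (a * b) ^ 3 = 1 := by
    rw [ha, hb, ← map_mul, ← map_pow, hker]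
    show (T.A.x 1 * tEl T) ^ 3 ∈ _
    rw [x1_tEl_cube]; exact one_mem _
  have ha1 : a ≠ 1 := fun h => x1_notMem_M T ((hker _).1 (ha ▸ h))
  have hne : a ≠ b := fun h => tEl_notMem_H1 T (by
    have h' : π (⟨T.A.x 1, hx1⟩ * ⟨tEl T, tEl_mem_L T⟩) = 1 := by rw [map_mul, ← ha, ← hb, ← h, ha2]
    have h'' := mul_mem (x_mem_H1 T (show 1 ∈ sGens by decide)) (M_le_H1 T ((hker _).1 h'))
    rwa [Subgroup.coe_mul, ← mul_assoc, T.A.sq, one_mul] at h'')
  have hgen : Subgroup.closure ({a, b} : Set _) = ⊤ := by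
    rw [eq_top_iff]
    rintro q -
    obtain ⟨⟨y, hy⟩, rfl⟩ := (hπ ▸ QuotientGroup.mk'_surjective _ : Function.Surjective π) q
    suffices h : ∀ y (hy : y ∈ L T), π ⟨y, hy⟩ ∈ Subgroup.closure ({a, b} : Set _) from h y hy
    intro y hy
    induction hy using Subgroup.closure_induction with
    | mem x hx =>
      rcases hx with rfl | ⟨g, hg, rfl⟩
      · exact Subgroup.subset_closure (Or.inr hb.symm)
      · refine Subgroup.subset_closure (Or.inl ?_)
        rw [ha, hπ, QuotientGroup.mk'_apply, QuotientGroup.mk'_apply, QuotientGroup.eq, Subgroup.mem_subgroupOf]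
        show (T.A.x g)⁻¹ * T.A.x 1 ∈ M T
        rw [inv_eq_of_mul_eq_one_right (T.A.sq g), M_eq_ev]
        exact pair_mem_ev T hg (by decide)
    | one => exact (map_one π) ▸ one_mem _
    | mul x y hx hy ihx ihy => exact (map_mul π ⟨x, hx⟩ ⟨y, hy⟩) ▸ mul_mem ihx ihy
    | inv x hx ih => exact (map_inv π ⟨x, hx⟩) ▸ inv_mem ih
  obtain ⟨e⟩ := nonempty_perm_three ha2 hb2 hab ha1 hne hgen
  refine ⟨⟨e⟩, fun y hy hc => ?_⟩
  have hcent : π ⟨y, hy⟩ * a = a * π ⟨y, hy⟩ := by
    rw [ha, ← map_mul, ← map_mul]; exact congrArg π (Subtype.ext hc.symm)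
  have hperm : ∀ p r : Equiv.Perm (Fin 3), r * r = 1 → r ≠ 1 → p * r = r * p → p = 1 ∨ p = r := by
    decide +kernel
  rcases hperm (e (π ⟨y, hy⟩)) (e a) (by rw [← map_mul, ha2, map_one])
      (fun h => ha1 (e.injective (h.trans (map_one e).symm))) (by rw [← map_mul, ← map_mul, hcent]) with h | h
  · exact Or.inl ((hker ⟨y, hy⟩).1 (e.injective (h.trans (map_one e).symm)))
  · right
    have := (hker (⟨T.A.x 1, hx1⟩ * ⟨y, hy⟩)).1 (by rw [map_mul, ← ha, e.injective h, ha2])
    exact this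

theorem M_simple : IsSimpleGroup ↥(M T) ∧ ¬ ∀ x y : ↥(M T), x * y = y * x := by
  obtain ⟨e⟩ := nonempty_M_equiv T
  haveI := pomega_simple C8 (show 7 ≤ Fintype.card I8 by simp [I8])
  haveI := e.isSimpleGroup
  refine ⟨inferInstance, fun hab => ?_⟩
  let : CommGroup ↥(M T) := { (inferInstance : Group ↥(M T)) with mul_comm := hab }
  have := IsSimpleGroup.prime_card (α := ↥(M T))
  rw [card_M] at this
  exact Nat.not_prime_mul (a := 2) (b := 2476089907200) (by decide) (by decide) this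

theorem generalizedFitting_L : Cfsg.generalizedFittingSubgroup ↥(L T) = (M T).subgroupOf (L T) := by
  haveI := M_normal T
  obtain ⟨N, hN⟩ : ∃ N, N = (M T).subgroupOf (L T) := ⟨_, rfl⟩
  haveI : N.Normal := hN ▸ M_normal T
  obtain ⟨hs, hnc⟩ := M_simple T
  have eN : ↥N ≃* ↥(M T) := hN ▸ Subgroup.subgroupOfEquivOfLe (M_le_L T)
  haveI hsN : IsSimpleGroup ↥N := eN.isSimpleGroup
  have hncN : ¬ ∀ x y : ↥N, x * y = y * x := fun h => hnc fun x y =>
    eN.symm.injective (by rw [map_mul, map_mul, h])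
  have hq : Cfsg.IsQuasisimple ↥N := by
    have hperf : commutator ↥N = ⊤ := by
      rcases (inferInstance : (commutator ↥N).Normal).eq_bot_or_eq_top with h | h
      · refine absurd (fun x y => ?_) hncN
        have : ⁅x, y⁆ ∈ commutator ↥N := Subgroup.commutator_mem_commutator (Subgroup.mem_top x) (Subgroup.mem_top y)
        rw [h, Subgroup.mem_bot, commutatorElement_eq_one_iff_mul_comm] at this
        exact this
      · exact h
    have hcb : Subgroup.center ↥N = ⊥ :=
      (inferInstance : (Subgroup.center ↥N).Normal).eq_bot_or_eq_top.resolve_right fun q =>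
        hncN fun x y => Subgroup.mem_center_iff.1 (q ▸ Subgroup.mem_top y) x
    exact ⟨Group.isPerfect_def.2 hperf,
      ((QuotientGroup.quotientMulEquivOfEq hcb).trans QuotientGroup.quotientBot).isSimpleGroup⟩
  have hcomp : Cfsg.IsComponent N := ⟨Subgroup.Normal.isSubnormal inferInstance, hq⟩
  have hcen : Subgroup.centralizer (N : Set ↥(L T)) = ⊥ := by
    rw [eq_bot_iff]
    intro c hc
    have h : (c : G) ∈ Subgroup.centralizer (M T : Set G) := Subgroup.mem_centralizer_iff.2 fun m hm =>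
      congrArg Subtype.val (Subgroup.mem_centralizer_iff.1 hc ⟨m, M_le_L T hm⟩ (by rw [hN]; exact hm))
    rw [centralizer_M, Subgroup.mem_bot] at h
    exact Subgroup.mem_bot.2 (Subtype.ext h)
  have hlay : Cfsg.layer ↥(L T) = N := by
    refine le_antisymm (sSup_le fun K hK => ?_) (Lib.Core.le_layer hcomp)
    by_contra hne
    have q := Lib.Core.component_commute hK hcomp (fun e' => hne e'.le)
    rw [Subgroup.commutator_eq_bot_iff_le_centralizer, hcen] at q
    exact hne (q.trans bot_le)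
  rw [← hN]
  refine le_antisymm (sup_le hlay.le ?_) (hlay.symm.le.trans le_sup_left)
  have q := Lib.Core.commutator_layer_fitting (G := ↥(L T))
  rw [hlay, Subgroup.commutator_comm, Subgroup.commutator_eq_bot_iff_le_centralizer, hcen] at q
  exact q.trans bot_le

theorem braid_tEl : (T.A.x 1 * tEl T) * T.A.x 1 * (T.A.x 1 * tEl T)⁻¹ = tEl T :=
  Fi23Out.braid_conj (T.A.sq 1) (tEl_sq T) (x1_tEl_cube T)

/-- All members in `L` are conjugate to the first generator in `L`. -/
theorem conj_x1 (q : Fin 31671) (hq : T.A.delta q ∈ L T) : ∃ g ∈ L T, g * T.A.x 1 * g⁻¹ = T.A.delta q := by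
  rw [delta_mem_L_iff] at hq
  obtain ⟨h, hh, hr, he⟩ := delta_conj_root T q
  by_cases h1 : place q < 1080
  · rw [root_delta T hr 1 (by norm_num) (j := 0) (by rw [rootOf_eq, if_pos h1]) roots_ok.1] at he
    exact ⟨h, H1_le_L T hh, he⟩
  · have : (pl hr : Fin 31671) = pl (show 1080 < 31671 by norm_num) := Fin.ext (by
      show ordPt _ = ordPt _
      rw [show rootOf (place q) = 1080 by rw [rootOf_eq, if_neg h1, if_pos hq]])
    rw [this, ← tEl_eq] at he
    refine ⟨h * (T.A.x 1 * tEl T), mul_mem (H1_le_L T hh) (mul_mem (H1_le_L T (x_mem_H1 T (by decide))) (tEl_mem_L T)), ?_⟩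
    rw [← he]
    conv_rhs => rw [← braid_tEl T]
    group

/-- The centraliser of the first generator in `L`. -/
theorem nonempty_cent_x1 :
    Nonempty (↥(L T ⊓ Subgroup.centralizer ({T.A.x 1} : Set G)) ≃*
      Multiplicative (ZMod 2) × Cfsg.POmega (ZMod 3) qf7) := by
  obtain ⟨C, hC⟩ : ∃ C, C = L T ⊓ Subgroup.centralizer ({T.A.x 1} : Set G) := ⟨_, rfl⟩
  rw [← hC]
  have hCm : ∀ y, y ∈ C ↔ y ∈ L T ∧ y * T.A.x 1 = T.A.x 1 * y := fun y => by
    rw [hC, Subgroup.mem_inf, Subgroup.mem_centralizer_singleton_iff]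
  have hx1 : T.A.x 1 ∈ C := (hCm _).2 ⟨H1_le_L T (x_mem_H1 T (by decide)), rfl⟩
  obtain ⟨K, hK⟩ : ∃ K, K = M T ⊓ Subgroup.centralizer ({T.A.x 1} : Set G) := ⟨_, rfl⟩
  have hKC : K ≤ C := by rw [hK, hC]; exact inf_le_inf_right _ (M_le_L T)
  obtain ⟨eS⟩ := nonempty_split (⟨T.A.x 1, hx1⟩ : ↥C) (Subtype.ext (T.A.sq 1))
    (fun y => Subtype.ext ((hCm _).1 y.2).2.symm) (K.subgroupOf C)
    (fun h => x1_notMem_M T ((hK ▸ (Subgroup.mem_subgroupOf.1 h) :
      T.A.x 1 ∈ M T ⊓ Subgroup.centralizer ({T.A.x 1} : Set G)).1))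
    (fun y => by
      obtain ⟨hy, hyc⟩ := (hCm _).1 y.2
      rcases (quotient_facts T).2 y hy hyc.symm with h | h
      · left
        rw [Subgroup.mem_subgroupOf, hK]
        exact ⟨h, Subgroup.mem_centralizer_singleton_iff.2 hyc⟩
      · right
        rw [Subgroup.mem_subgroupOf, hK]
        refine ⟨h, Subgroup.mem_centralizer_singleton_iff.2 ?_⟩
        show T.A.x 1 * (y : G) * T.A.x 1 = T.A.x 1 * (T.A.x 1 * (y : G))
        rw [mul_assoc, hyc])
  obtain ⟨e7⟩ := nonempty_fix_equiv T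
  exact ⟨eS.trans (MulEquiv.prodCongr (MulEquiv.refl _)
    (((Subgroup.subgroupOfEquivOfLe hKC).trans (MulEquiv.subgroupCongr hK)).trans e7))⟩

/-- The statement for the group of the table. -/
theorem exists_subgroup : ∃ L : Subgroup G, Cfsg.IsDSubgroup (conjugatesOf T.A.d) L ∧
    Nonempty (↥(Cfsg.generalizedFittingSubgroup ↥L) ≃* Cfsg.POmega (ZMod 3) (Cfsg.quadFormPlus 4 (ZMod 3))) ∧
    (∃ _ : (Cfsg.generalizedFittingSubgroup ↥L).Normal,
      Nonempty (↥L ⧸ Cfsg.generalizedFittingSubgroup ↥L ≃* Equiv.Perm (Fin 3))) ∧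
    ∀ d ∈ conjugatesOf T.A.d, d ∈ L → Nonempty (↥(L ⊓ Subgroup.centralizer ({d} : Set G)) ≃*
      Multiplicative (ZMod 2) × Cfsg.POmega (ZMod 3) (Cfsg.quadFormOdd 3 (ZMod 3))) := by
  have hF := generalizedFitting_L T
  refine ⟨L T, ?_, ?_, ?_, ?_⟩
  · refine le_antisymm ((Subgroup.closure_le _).2 fun x hx => hx.2) ((Subgroup.closure_le _).2 ?_)
    rintro _ (rfl | ⟨g, hg, rfl⟩)
    · refine Subgroup.subset_closure ⟨?_, tEl_mem_L T⟩
      rw [tEl_eq]
      exact (T.A.isConj_iff_exists _).2 ⟨_, rfl⟩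
    · refine Subgroup.subset_closure ⟨?_, H1_le_L T (x_mem_H1 T hg)⟩
      exact (T.A.isConj_iff_exists _).2 ⟨_, delta_gPt T (mem_sGens.1 hg).2⟩
  · obtain ⟨e⟩ := nonempty_M_equiv T
    exact ⟨((MulEquiv.subgroupCongr hF).trans (Subgroup.subgroupOfEquivOfLe (M_le_L T))).trans e⟩
  · haveI := M_normal T
    haveI hn : (Cfsg.generalizedFittingSubgroup ↥(L T)).Normal := by rw [hF]; exact M_normal T
    obtain ⟨e⟩ := (quotient_facts T).1
    exact ⟨hn, ⟨(QuotientGroup.quotientMulEquivOfEq hF).trans e⟩⟩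
  · intro d hd hdL
    obtain ⟨q, rfl⟩ := (T.A.isConj_iff_exists _).1 hd
    obtain ⟨g, hg, he⟩ := conj_x1 T q hdL
    obtain ⟨e⟩ := nonempty_cent_x1 T
    have hmap : (L T ⊓ Subgroup.centralizer ({T.A.x 1} : Set G)).map (MulAut.conj g).toMonoidHom =
        L T ⊓ Subgroup.centralizer ({T.A.delta q} : Set G) := by
      ext y
      rw [Subgroup.mem_map_equiv, Subgroup.mem_inf, Subgroup.mem_inf, MulAut.conj_symm_apply,
        Subgroup.mem_centralizer_singleton_iff, Subgroup.mem_centralizer_singleton_iff, ← he]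
      refine and_congr ⟨fun h => ?_, fun h => mul_mem (mul_mem (inv_mem hg) h) hg⟩ ⟨fun h => ?_, fun h => ?_⟩
      · simpa [mul_assoc] using mul_mem (mul_mem hg h) (inv_mem hg)
      · calc y * (g * T.A.x 1 * g⁻¹) = g * (g⁻¹ * y * g * T.A.x 1) * g⁻¹ := by group
          _ = g * (T.A.x 1 * (g⁻¹ * y * g)) * g⁻¹ := by rw [h]
          _ = g * T.A.x 1 * g⁻¹ * y := by group
      · calc g⁻¹ * y * g * T.A.x 1 = g⁻¹ * (y * (g * T.A.x 1 * g⁻¹)) * g := by group
          _ = g⁻¹ * (g * T.A.x 1 * g⁻¹ * y) * g := by rw [h]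
          _ = T.A.x 1 * (g⁻¹ * y * g) := by group
    exact ⟨((MulEquiv.subgroupCongr hmap.symm).trans ((MulAut.conj g).subgroupMap _).symm).trans e⟩

end Cfsg.Lib.CosetEnum.Fi23O8
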