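import Cfsg.Agent.Lib.CosetEnum.Fi23O8.Iso
import Cfsg.Agent.S0286
import Cfsg.Agent.S0292
import Cfsg.Agent.Lib.Linear.OrthOrderStd

/-!
# The centralizer of a member in `M` is Ω(7, 3)

An element of `Ω⁺(8, 3)` keeping a vector of norm one up to sign is, times that sign, an isometry of its
orthogonal complement.
-/

set_option autoImplicit false
set_option maxRecDepth 100000
set_option linter.unusedSectionVars false

open scoped Matrix
open Cfsg.Lib.Linear.Orth

namespace Cfsg.Lib.CosetEnum.Fi23O8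

/-- The seven coordinates. -/
abbrev I7 : Type := Unit ⊕ (Fin 3 ⊕ Fin 3)

/-- The form in dimension seven. -/
abbrev qf7 : (I7 → ZMod 3) → ZMod 3 := Cfsg.quadFormOdd 3 (ZMod 3)

/-- The fixed vector. -/
def v0 : I8 → ZMod 3
  | .inl k => if k = 3 then 1 else 0
  | .inr k => if k = 3 then 1 else 0

theorem ptVec_zero : ptVec 0 = v0 := by decide +kernel

/-- The complement of the fixed vector, with the form negated. -/
def upF (y : I7 → ZMod 3) : I8 → ZMod 3
  | .inl k => if h : k.1 < 3 then - y (.inr (.inl ⟨k.1, h⟩)) else y (.inl ())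
  | .inr k => if h : k.1 < 3 then y (.inr (.inr ⟨k.1, h⟩)) else - y (.inl ())

/-- The coordinates in the complement. -/
def downF (x : I8 → ZMod 3) : I7 → ZMod 3
  | .inl _ => 2 * (x (.inl 3) - x (.inr 3))
  | .inr (.inl k) => - x (.inl k.castSucc)
  | .inr (.inr k) => x (.inr k.castSucc)

/-- The embedding of the complement. -/
def upL : (I7 → ZMod 3) →ₗ[ZMod 3] (I8 → ZMod 3) where
  toFun := upF
  map_add' a b := by
    funext k
    rcases k with k | k <;> fin_cases k <;> simp [upF] <;> ring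
  map_smul' a b := by
    funext k
    rcases k with k | k <;> fin_cases k <;> simp [upF]

/-- The projection to the complement. -/
def downL : (I8 → ZMod 3) →ₗ[ZMod 3] (I7 → ZMod 3) where
  toFun := downF
  map_add' a b := by
    funext k
    rcases k with k | k | k <;> simp [downF] <;> ring
  map_smul' a b := by
    funext k
    rcases k with k | k | k <;> simp [downF] <;> ring

theorem three_zero : (3 : ZMod 3) = 0 := by decide

theorem qf_up (y : I7 → ZMod 3) : qf (upL y) = - qf7 y := by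
  simp only [qf_eq, qfc, qf7, Cfsg.quadFormOdd, Fin.sum_univ_three, upL, LinearMap.coe_mk, AddHom.coe_mk, upF]
  norm_num
  have e : ∀ h, (⟨2, h⟩ : Fin 3) = 2 := fun _ => rfl
  simp only [e]
  ring

theorem down_up (y : I7 → ZMod 3) : downL (upL y) = y := by
  funext k
  rcases k with u | k | k
  · cases u
    simp only [downL, upL, LinearMap.coe_mk, AddHom.coe_mk, downF, upF]
    norm_num
    linear_combination (y (.inl ())) * three_zero
  all_goals
    fin_cases k <;> simp [downL, upL, downF, upF]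

theorem up_down {x : I8 → ZMod 3} (hx : pol v0 x = 0) : upL (downL x) = x := by
  have h : x (.inl 3) + x (.inr 3) = 0 := by
    have := hx
    simp [pol, v0] at this
    linear_combination this
  funext k
  rcases k with k | k <;> fin_cases k <;> simp [downL, upL, downF, upF]
  · linear_combination (x (.inl 3)) * three_zero - 2 * h
  · linear_combination (x (.inr 3)) * three_zero - 2 * h

theorem pol_up (y : I7 → ZMod 3) : pol v0 (upL y) = 0 := by
  simp [pol, v0, upL, upF]

theorem down_v0 : downL v0 = 0 := by decide +kernel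

theorem center_omega7 : Subgroup.center ↥(Cfsg.Omega (ZMod 3) qf7) = ⊥ := by
  obtain ⟨B, C⟩ := exists_space (isQuad_odd (F := ZMod 3) 3 (by decide))
  refine (Subgroup.eq_bot_iff_forall _).mpr fun z hz => ?_
  have h7 : 7 ≤ Fintype.card I7 := by simp [I7]
  rcases omega_center_pm C h7 hz with h | h
  · exact Subtype.ext (Subtype.ext (Units.ext h))
  · exfalso
    have hd : (Matrix.GeneralLinearGroup.det.comp (isometryGroup (ZMod 3) qf7).subtype)
        (z : ↥(isometryGroup (ZMod 3) qf7)) = 1 :=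
      MonoidHom.mem_ker.mp (Abelianization.commutator_subset_ker _ z.2)
    have hd' := congrArg Units.val hd
    simp [h, Matrix.det_neg] at hd'
    revert hd'
    decide

/-- `Ω(7, 3)` is `PΩ(7, 3)`. -/
noncomputable def omega7Equiv : ↥(Cfsg.Omega (ZMod 3) qf7) ≃* Cfsg.POmega (ZMod 3) qf7 :=
  (QuotientGroup.quotientBot.symm).trans (QuotientGroup.quotientMulEquivOfEq center_omega7.symm)

theorem omega7_simple : IsSimpleGroup ↥(Cfsg.Omega (ZMod 3) qf7) := by
  obtain ⟨B, C⟩ := exists_space (isQuad_odd (F := ZMod 3) 3 (by decide))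
  haveI := pomega_simple C (show 7 ≤ Fintype.card I7 by simp [I7])
  exact omega7Equiv.isSimpleGroup

theorem card_omega7 : Nat.card ↥(Cfsg.Omega (ZMod 3) qf7) = 4585351680 ∧
    Nat.card ↥(isometryGroup (ZMod 3) qf7) = 4 * 4585351680 := by
  have h2 : (2 : ZMod 3) ≠ 0 := by decide
  obtain ⟨B, C⟩ := exists_space (isQuad_odd (F := ZMod 3) 3 h2)
  obtain ⟨-, hidx, -⟩ := omega_odd C h2 (by rw [card_odd_index]; omega)
  have hP := Cfsg.Agent.S0292.result (F := ZMod 3) (q := 3) (ZMod.card 3) (by decide) 3 le_rfl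
  simp only [Finset.prod_range_succ, Finset.prod_range_zero] at hP
  norm_num at hP
  have hO : Nat.card ↥(Cfsg.Omega (ZMod 3) qf7) = 4585351680 := by
    rw [Nat.card_congr omega7Equiv.toEquiv]
    show Nat.card (Cfsg.POmega (ZMod 3) (Cfsg.quadFormOdd 3 (ZMod 3))) = _
    omega
  refine ⟨hO, ?_⟩
  rw [← Subgroup.card_mul_index (commutator ↥(isometryGroup (ZMod 3) qf7)), hidx]
  show Nat.card ↥(Cfsg.Omega (ZMod 3) qf7) * 4 = _
  rw [hO]

/-- A subgroup of the order of `Ω(7, 3)` in its isometry group is `Ω(7, 3)`. -/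
theorem eq_omega7 {R : Subgroup ↥(isometryGroup (ZMod 3) qf7)} (hR : Nat.card ↥R = 4585351680) :
    R = Cfsg.Omega (ZMod 3) qf7 := by
  obtain ⟨hO, hI⟩ := card_omega7
  haveI := omega7_simple
  set S := R.subgroupOf (Cfsg.Omega (ZMod 3) qf7)
  have hidxR : R.index = 4 := by
    have := R.card_mul_index
    rw [hR, hI] at this
    omega
  have hS : S.index ≤ 4 := by
    refine le_trans (Subgroup.relIndex_le_of_le_right (H := R) (L := ⊤) le_top ?_) ?_
    · rw [Subgroup.relIndex_top_right, hidxR]; norm_num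
    · rw [Subgroup.relIndex_top_right, hidxR]
  have hle : Cfsg.Omega (ZMod 3) qf7 ≤ R := by
    refine Subgroup.subgroupOf_eq_top.1 ?_
    by_contra hne
    have hcore : S.normalCore = ⊥ := ((Subgroup.normalCore_normal S).eq_bot_or_eq_top).resolve_right
      fun h => hne (top_le_iff.1 (h ▸ Subgroup.normalCore_le S))
    have hinj : Function.Injective (MulAction.toPermHom ↥(Cfsg.Omega (ZMod 3) qf7) (↥(Cfsg.Omega (ZMod 3) qf7) ⧸ S)) := by
      rw [← MonoidHom.ker_eq_bot_iff, ← Subgroup.normalCore_eq_ker, hcore]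
    have := Nat.card_le_card_of_injective _ hinj
    rw [Nat.card_perm, ← Subgroup.index_eq_card, hO] at this
    have := this.trans (Nat.factorial_le hS)
    norm_num [Nat.factorial] at this
  exact (Subgroup.eq_of_le_of_card_ge hle (by rw [hR, hO])).symm

/-- The sign on the fixed vector. -/
def sgn (W : Matrix I8 I8 (ZMod 3)) : ZMod 3 := (W *ᵥ v0) (.inl 3)

/-- The elements keeping the fixed vector up to sign. -/
noncomputable def keepLine : Subgroup ↥(Cfsg.Omega (ZMod 3) qf) where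
  carrier := {w | ∃ ε : ZMod 3, ε ≠ 0 ∧ ((w : O8) : GL I8 (ZMod 3)).val *ᵥ v0 = ε • v0}
  one_mem' := ⟨1, one_ne_zero, by simp⟩
  mul_mem' := by
    rintro a b ⟨ε, hε, ha⟩ ⟨δ, hδ, hb⟩
    refine ⟨δ * ε, mul_ne_zero hδ hε, ?_⟩
    rw [Subgroup.coe_mul, Subgroup.coe_mul, mul_act, hb, Matrix.mulVec_smul, ha, smul_smul]
  inv_mem' := by
    rintro a ⟨ε, hε, ha⟩
    refine ⟨ε⁻¹, inv_ne_zero hε, ?_⟩
    have := congrArg (fun y => (((a : O8) : GL I8 (ZMod 3))⁻¹ : GL I8 (ZMod 3)).val *ᵥ y) ha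
    simp only [inv_act, Matrix.mulVec_smul] at this
    rw [Subgroup.coe_inv, Subgroup.coe_inv]
    conv_rhs => rw [this, smul_smul, inv_mul_cancel₀ hε, one_smul]

theorem sgn_spec {w : ↥(Cfsg.Omega (ZMod 3) qf)} (hw : w ∈ keepLine) :
    ((w : O8) : GL I8 (ZMod 3)).val *ᵥ v0 = sgn ((w : O8) : GL I8 (ZMod 3)).val • v0 ∧
      sgn ((w : O8) : GL I8 (ZMod 3)).val * sgn ((w : O8) : GL I8 (ZMod 3)).val = 1 := by
  obtain ⟨ε, hε, he⟩ := hw
  have hs : sgn ((w : O8) : GL I8 (ZMod 3)).val = ε := by simp [sgn, he, v0]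
  exact ⟨by rw [hs]; exact he, by rw [hs]; rcases sign_cases ε hε with rfl | rfl <;> decide⟩

/-- The matrix on the complement, times the sign. -/
noncomputable def resMat (W : Matrix I8 I8 (ZMod 3)) : Matrix I7 I7 (ZMod 3) :=
  LinearMap.toMatrix' (sgn W • (downL ∘ₗ W.mulVecLin ∘ₗ upL))

theorem resMat_mulVec (W : Matrix I8 I8 (ZMod 3)) (y : I7 → ZMod 3) :
    resMat W *ᵥ y = sgn W • downL (W *ᵥ upL y) := by
  rw [resMat, LinearMap.toMatrix'_mulVec]
  rfl

theorem pol_img {w : ↥(Cfsg.Omega (ZMod 3) qf)} (hw : w ∈ keepLine) (y : I7 → ZMod 3) :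
    pol v0 (((w : O8) : GL I8 (ZMod 3)).val *ᵥ upL y) = 0 := by
  obtain ⟨h1, h2⟩ := sgn_spec hw
  have h := C8.B_act (w : O8).2 v0 (upL y)
  rw [h1, map_smul, LinearMap.smul_apply, B8_eq, B8_eq, pol_up, smul_eq_mul] at h
  have := congrArg (sgn ((w : O8) : GL I8 (ZMod 3)).val * ·) h
  simp only [← mul_assoc, h2, one_mul, mul_zero] at this
  exact this

/-- Restriction to the complement, times the sign, as matrices. -/
noncomputable def resHom0 : ↥keepLine →* Matrix I7 I7 (ZMod 3) where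
  toFun w := resMat (((w : ↥(Cfsg.Omega (ZMod 3) qf)) : O8) : GL I8 (ZMod 3)).val
  map_one' := by
    refine mat_ext fun y => ?_
    rw [resMat_mulVec]
    simp [sgn, v0, down_up]
  map_mul' a b := by
    refine mat_ext fun y => ?_
    obtain ⟨hb1, -⟩ := sgn_spec b.2
    obtain ⟨ha1, -⟩ := sgn_spec a.2
    simp only [Subgroup.coe_mul]
    have hs : sgn (((a.1 : O8) : GL I8 (ZMod 3)) * ((b.1 : O8) : GL I8 (ZMod 3))).val =
        sgn ((b.1 : O8) : GL I8 (ZMod 3)).val * sgn ((a.1 : O8) : GL I8 (ZMod 3)).val := by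
      rw [sgn, mul_act, hb1, Matrix.mulVec_smul, ha1, smul_smul]
      simp [v0]
    rw [← Matrix.mulVec_mulVec, resMat_mulVec, resMat_mulVec, resMat_mulVec, hs, mul_act, map_smul,
      Matrix.mulVec_smul, map_smul, up_down (pol_img b.2 y), smul_smul, mul_comm]

/-- Restriction to the complement, times the sign. -/
noncomputable def resHom : ↥keepLine →* ↥(isometryGroup (ZMod 3) qf7) :=
  resHom0.toHomUnits.codRestrict _ fun w => by
    refine mem_iso.2 fun y => ?_
    show qf7 (resMat _ *ᵥ y) = qf7 y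
    obtain ⟨-, h2⟩ := sgn_spec w.2
    obtain ⟨B7, C7⟩ : ∃ B, Space qf7 B := exists_space (isQuad_odd (F := ZMod 3) 3 (by decide))
    have h := mem_iso.1 ((w.1 : O8)).2 (upL y)
    rw [← up_down (pol_img w.2 y), qf_up, qf_up, neg_inj] at h
    rw [resMat_mulVec, C7.smul, h, pow_two, h2, one_mul]

theorem resHom_ker {w : ↥keepLine} (h : resHom w = 1) :
    (w : ↥(Cfsg.Omega (ZMod 3) qf)) ∈ Subgroup.center ↥(Cfsg.Omega (ZMod 3) qf) := by
  obtain ⟨h1, h2⟩ := sgn_spec w.2
  set W : GL I8 (ZMod 3) := ((w.1 : O8) : GL I8 (ZMod 3))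
  have hy : ∀ y, W.val *ᵥ upL y = sgn W.val • upL y := fun y => by
    have e : resMat W.val *ᵥ y = y := by
      have := congrArg (fun g : ↥(isometryGroup (ZMod 3) qf7) => (g : GL I7 (ZMod 3)).val *ᵥ y) h
      exact this.trans (Matrix.one_mulVec y)
    rw [resMat_mulVec] at e
    have := congrArg (fun z => sgn W.val • upL z) e
    simp only [map_smul, smul_smul, h2, one_smul] at this
    rwa [up_down (pol_img w.2 y)] at this
  have hx : ∀ x, W.val *ᵥ x = sgn W.val • x := fun x => by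
    have hp : pol v0 (x - (2 * pol v0 x) • v0) = 0 := by
      rw [← B8_eq, ← B8_eq, map_sub, map_smul, smul_eq_mul, B8_eq v0 v0, show pol v0 v0 = 2 by decide +kernel]
      linear_combination (- B8 v0 x) * three_zero
    have e := hy (downL (x - (2 * pol v0 x) • v0))
    rw [up_down hp, Matrix.mulVec_sub, Matrix.mulVec_smul, h1, smul_sub, smul_comm] at e
    exact sub_left_inj.1 e
  refine Subgroup.mem_center_iff.2 fun z => Subtype.ext (Subtype.ext (gl_ext fun x => ?_))
  simp only [Subgroup.coe_mul, mul_act]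
  rw [hx, hx, Matrix.mulVec_smul]

variable {G : Type*} [Group G] [Finite G] (T : Tab23 G)

theorem x1_eq_delta : T.A.x 1 = T.A.delta p1 := by
  rw [p1_eq T, delta_gPt]

theorem M_transitive (q : Fin 31671) (hq : place q < 1080) : ∃ m ∈ M T, T.A.f m p1 = q := by
  obtain ⟨h, hh, hr, he⟩ := reach T (place q) (place_lt q)
  have hroot : (pl hr : Fin 31671) = p1 :=
    Fin.ext (by show ordPt _ = ordPt _; rw [rootOf_eq, if_pos hq])
  rw [pl_place, hroot] at he
  rcases H1_cases T hh with hm | hm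
  · exact ⟨h, M_eq_ev T ▸ hm, he⟩
  · refine ⟨T.A.x 1 * (T.A.x 1 * h) * T.A.x 1, ?_, ?_⟩
    · rw [M_eq_ev]; exact x1_conj_ev T hm
    · have hfix : T.A.f (T.A.x 1) p1 = p1 := (T.A.commute_delta_iff _ _).1 (by rw [← x1_eq_delta])
      rw [← mul_assoc, T.A.sq, one_mul, map_mul, Equiv.Perm.mul_apply, hfix, he]

theorem card_fix : Nat.card ↥(M T ⊓ Subgroup.centralizer ({T.A.x 1} : Set G)) = 4585351680 := by
  classical
  letI : MulAction ↥(M T) (Fin 31671) := MulAction.compHom _ ((T.A.f).comp (M T).subtype)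
  have hstab : Nat.card ↥(MulAction.stabilizer ↥(M T) (p1 : Fin 31671)) =
      Nat.card ↥(M T ⊓ Subgroup.centralizer ({T.A.x 1} : Set G)) := by
    refine Nat.card_congr ⟨fun m => ⟨m.1.1, m.1.2, ?_⟩, fun m => ⟨⟨m.1, m.2.1⟩, ?_⟩, fun _ => rfl, fun _ => rfl⟩
    · refine Subgroup.mem_centralizer_singleton_iff.2 ?_
      rw [x1_eq_delta]
      exact (T.A.commute_delta_iff _ _).2 m.2
    · refine (T.A.commute_delta_iff (m.1 : G) p1).1 ?_
      rw [← x1_eq_delta]
      exact Subgroup.mem_centralizer_singleton_iff.1 m.2.2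
  have horb : Nat.card (MulAction.orbit ↥(M T) (p1 : Fin 31671)) = 1080 := by
    have hset : MulAction.orbit ↥(M T) (p1 : Fin 31671) = {q | place q < 1080} := by
      ext q
      refine ⟨?_, fun hq => ?_⟩
      · rintro ⟨m, rfl⟩
        exact ((H1_le_keep T (M_le_H1 T m.2)).1 p1).2 (by rw [p1, place_pl]; norm_num)
      · obtain ⟨m, hm, he⟩ := M_transitive T q hq
        exact ⟨⟨m, hm⟩, he⟩
    rw [hset]
    refine Eq.trans (Nat.card_congr (β := Fin 1080) ⟨fun q => ⟨place q.1, q.2⟩,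
      fun j => ⟨pl (show j.1 < 31671 by omega), by show place _ < 1080; rw [place_pl]; exact j.2⟩,
      fun q => Subtype.ext (pl_place q.1), fun j => Fin.ext (place_pl (show j.1 < 31671 by omega))⟩) (Nat.card_fin _)
  have h := Nat.card_congr (MulAction.orbitProdStabilizerEquivGroup ↥(M T) (p1 : Fin 31671))
  rw [Nat.card_prod, horb, hstab, card_M] at h
  omega

/-- The centraliser of a member of the first orbit in `M` is `PΩ(7, 3)`. -/
theorem nonempty_fix_equiv :
    Nonempty (↥(M T ⊓ Subgroup.centralizer ({T.A.x 1} : Set G)) ≃* Cfsg.POmega (ZMod 3) qf7) := by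
  obtain ⟨Θ, hr, hk, hact⟩ := exists_theta T
  have hp0 : place p1 = 0 := place_pl _
  have hact0 : ∀ w : ↥(Cfsg.Omega (ZMod 3) qf), ∃ ε : ZMod 3, ε ≠ 0 ∧ ((w : O8) : GL I8 (ZMod 3)).val *ᵥ v0 =
      ε • ptVec (place (T.A.f (Θ w) p1)) := fun w => by
    obtain ⟨ε, hε, he⟩ := hact w p1 (by rw [hp0]; norm_num)
    exact ⟨ε, hε, by rw [← ptVec_zero]; rwa [hp0] at he⟩
  have hmem : ∀ w, w ∈ keepLine ↔ Θ w ∈ M T ⊓ Subgroup.centralizer ({T.A.x 1} : Set G) := by
    intro w
    have hM : Θ w ∈ M T := hr ▸ ⟨w, rfl⟩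
    obtain ⟨ε, hε, he⟩ := hact0 w
    have hlt : place (T.A.f (Θ w) p1) < 1080 :=
      ((H1_le_keep T (M_le_H1 T hM)).1 p1).2 (by rw [hp0]; norm_num)
    rw [Subgroup.mem_inf, Subgroup.mem_centralizer_singleton_iff, x1_eq_delta, T.A.commute_delta_iff]
    constructor
    · rintro ⟨δ, hδ, hd⟩
      refine ⟨hM, ?_⟩
      have : place (T.A.f (Θ w) p1) = 0 := vec_inj hlt (by norm_num) hε hδ (by rw [ptVec_zero, ← he, hd])
      rw [← pl_place (T.A.f (Θ w) p1)]
      exact Fin.ext (by show ordPt _ = ordPt 0; rw [this])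
    · rintro ⟨-, hfix⟩
      exact ⟨ε, hε, by rw [he, hfix, hp0, ptVec_zero]⟩
  let Ψ : ↥keepLine →* ↥(M T ⊓ Subgroup.centralizer ({T.A.x 1} : Set G)) :=
    (Θ.comp keepLine.subtype).codRestrict _ fun w => (hmem w.1).1 w.2
  have hΨs : Function.Surjective Ψ := by
    rintro ⟨m, hm⟩
    obtain ⟨w, rfl⟩ := (le_of_eq hr.symm hm.1 : m ∈ Θ.range)
    exact ⟨⟨w, (hmem w).2 hm⟩, rfl⟩
  have hker : Ψ.ker = resHom.ker := by
    ext w
    rw [MonoidHom.mem_ker, MonoidHom.mem_ker]
    constructor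
    · intro h
      have hc : (w : ↥(Cfsg.Omega (ZMod 3) qf)) ∈ Subgroup.center _ := by
        rw [← hk]
        exact congrArg Subtype.val h
      refine Subtype.ext (Units.ext (mat_ext fun y => ?_))
      show resMat _ *ᵥ y = (1 : Matrix I7 I7 (ZMod 3)) *ᵥ y
      rw [resMat_mulVec, Matrix.one_mulVec]
      obtain ⟨hs1, hs2⟩ := sgn_spec w.2
      rcases omega_center_pm C8 (by simp [I8]) hc with e | e <;>
        simp only [sgn, e, Matrix.one_mulVec, Matrix.neg_mulVec, map_neg, down_up] <;>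
        simp [v0]
    · intro h
      have hc := resHom_ker h
      rw [← hk, MonoidHom.mem_ker] at hc
      exact Subtype.ext hc
  let e1 : ↥(M T ⊓ Subgroup.centralizer ({T.A.x 1} : Set G)) ≃* ↥resHom.range :=
    (QuotientGroup.quotientKerEquivOfSurjective Ψ hΨs).symm.trans
      ((QuotientGroup.quotientMulEquivOfEq hker).trans (QuotientGroup.quotientKerEquivRange resHom))
  have hR : resHom.range = Cfsg.Omega (ZMod 3) qf7 := eq_omega7 (by rw [← Nat.card_congr e1.toEquiv, card_fix])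
  exact ⟨(e1.trans (MulEquiv.subgroupCongr hR)).trans omega7Equiv⟩

end Cfsg.Lib.CosetEnum.Fi23O8
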